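import Mathlib.GroupTheory.Index
import Mathlib.GroupTheory.QuotientGroup.Basic
import Mathlib.Algebra.Module.ZMod
import Mathlib.Algebra.CharP.Lemmas
import Mathlib.Algebra.Field.ZMod
import Mathlib.RingTheory.SimpleRing.Field
import Mathlib.Algebra.CharP.Algebra
import Mathlib.Algebra.CharP.Basic
import Mathlib.Algebra.Module.Equiv.Basic

/-!
# Small facts for `Lib.OffenderComp`

Owner: helper54.
-/

namespace Cfsg.Agent.Lib.OffenderComp.Aux

theorem card_sup_inf {G : Type*} [Group G] [Finite G] {H K : Subgroup G}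
    (h : H ≤ Subgroup.normalizer (K : Set G)) :
    Nat.card ↥(H ⊔ K) * Nat.card ↥(H ⊓ K) = Nat.card H * Nat.card K := by
  have hn : (K.subgroupOf (H ⊔ K)).Normal :=
    Subgroup.normal_subgroupOf_of_le_normalizer (sup_le h Subgroup.le_normalizer)
  have h4 := Subgroup.relIndex_sup_right (H.subgroupOf (H ⊔ K)) (K.subgroupOf (H ⊔ K))
  rw [← Subgroup.subgroupOf_sup le_sup_left le_sup_right, Subgroup.subgroupOf_self,
    Subgroup.relIndex_top_right, Subgroup.relIndex_subgroupOf le_sup_left] at h4
  have h5 := Subgroup.card_mul_index (K.subgroupOf (H ⊔ K))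
  rw [Nat.card_congr (Subgroup.subgroupOfEquivOfLe (le_sup_right : K ≤ H ⊔ K)).toEquiv, h4] at h5
  have h6 := Subgroup.card_mul_index (K.subgroupOf H)
  rw [← Subgroup.inf_subgroupOf_left,
    Nat.card_congr (Subgroup.subgroupOfEquivOfLe (inf_le_left : H ⊓ K ≤ H)).toEquiv] at h6
  rw [← h5, ← h6, Subgroup.inf_subgroupOf_left, Subgroup.relIndex]
  ring

/-- The linear-map coercion is multiplicative. -/
theorem coe_pow {R V : Type*} [Semiring R] [AddCommMonoid V] [Module R V] (a : V ≃ₗ[R] V) (n : ℕ) :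
    ((a ^ n : V ≃ₗ[R] V) : Module.End R V) = (a : Module.End R V) ^ n := by
  induction n with
  | zero => rfl
  | succ n ih => rw [pow_succ, pow_succ, ← ih]; rfl

theorem sub_one_pow {p : ℕ} [Fact p.Prime] {V : Type*} [AddCommGroup V] [Module (ZMod p) V]
    {a : V ≃ₗ[ZMod p] V} (ha : a ^ p = 1) : ((a : Module.End (ZMod p) V) - 1) ^ p = 0 := by
  rcases subsingleton_or_nontrivial V with hV | hV
  · exact Subsingleton.elim _ _
  · have : CharP (Module.End (ZMod p) V) p :=
      charP_of_injective_algebraMap (RingHom.injective (algebraMap (ZMod p) (Module.End (ZMod p) V))) p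
    rw [sub_pow_char_of_commute p (Commute.one_right _), ← coe_pow, ha, one_pow]
    exact sub_self _

end Cfsg.Agent.Lib.OffenderComp.Aux
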