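import Mathlib.GroupTheory.Commutator.Basic
import Mathlib.GroupTheory.Abelianization.Defs
import Mathlib.Data.Nat.Factorization.Basic
import Cfsg.Agent.Lib.Induced.Burnside

/-!
# Two group lemmas for `Lib.OffenderComp`

Owner: helper54.
-/

namespace Cfsg.Agent.Lib.OffenderComp

open scoped commutatorElement

/-- On a perfect group a homomorphism agreeing with `φ` or `φ⁻¹` pointwise equals `φ`. -/
theorem eq_of_inverting {K H : Type*} [Group K] [Group H] (hperf : ⁅(⊤ : Subgroup K), (⊤ : Subgroup K)⁆ = ⊤)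
    (φ ψ : K →* H) (h : ∀ y, ψ y = φ y ∨ ψ y = (φ y)⁻¹) : ψ = φ := by
  have key : ∀ c y, ψ c = φ c → ψ y ≠ φ y → φ y * φ c * (φ y)⁻¹ = (φ c)⁻¹ := by
    intro c y hc hy
    have h1 : ψ (c * y) = φ c * (φ y)⁻¹ := by rw [map_mul, hc, (h y).resolve_left hy]
    have h2 : ψ (c * y) ≠ φ (c * y) := fun e => hy (by
      rw [map_mul, map_mul, hc] at e; exact mul_left_cancel e)
    have h3 := (h (c * y)).resolve_left h2
    rw [h1, map_mul, mul_inv_rev] at h3
    rw [mul_assoc, h3, mul_inv_cancel_left]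
  have hle : ⁅(⊤ : Subgroup K), (⊤ : Subgroup K)⁆ ≤ MonoidHom.eqLocus ψ φ := by
    refine Subgroup.commutator_le.2 fun y _ z _ => ?_
    show ψ ⁅y, z⁆ = φ ⁅y, z⁆
    rw [map_commutatorElement, map_commutatorElement]
    by_cases hy : ψ y = φ y <;> by_cases hz : ψ z = φ z
    · rw [hy, hz]
    · have k := key y z hy hz
      have e1 : (φ z)⁻¹ * (φ y)⁻¹ * φ z = φ y := by
        rw [← k]; group
      rw [hy, (h z).resolve_left hz]
      simp only [commutatorElement_def, inv_inv]
      calc φ y * (φ z)⁻¹ * (φ y)⁻¹ * φ z = φ y * ((φ z)⁻¹ * (φ y)⁻¹ * φ z) := by group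
        _ = φ y * φ y := by rw [e1]
        _ = φ y * (φ z * φ y * (φ z)⁻¹)⁻¹ := by rw [k, inv_inv]
        _ = _ := by group
    · have k := key z y hz hy
      have e1 : (φ y)⁻¹ * φ z * φ y = (φ z)⁻¹ := by
        have e0 : φ y * (φ z)⁻¹ * (φ y)⁻¹ = φ z := by
          conv_rhs => rw [← inv_inv (φ z), ← k]
          group
        calc (φ y)⁻¹ * φ z * φ y = (φ y)⁻¹ * (φ y * (φ z)⁻¹ * (φ y)⁻¹) * φ y := by rw [e0]
          _ = _ := by group
      rw [hz, (h y).resolve_left hy]
      simp only [commutatorElement_def, inv_inv]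
      rw [e1, k]
    · rw [(h y).resolve_left hy, (h z).resolve_left hz]
      simp only [commutatorElement_def, inv_inv]
      rcases h (y * z) with hc | hc <;>
        rw [map_mul, map_mul, (h y).resolve_left hy, (h z).resolve_left hz] at hc
      · calc (φ y)⁻¹ * (φ z)⁻¹ * φ y * φ z = (φ y)⁻¹ * (φ z)⁻¹ * (φ y * φ z) := by group
          _ = (φ y * φ z) * ((φ y)⁻¹ * (φ z)⁻¹) := by rw [hc]
          _ = _ := by group
      · rw [mul_inv_rev] at hc
        have c1 : Commute (φ y)⁻¹ (φ z)⁻¹ := hc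
        have c2 : Commute (φ y) (φ z) := by simpa using c1.inv_inv
        rw [c1.eq, c2.eq]
        group
  rw [hperf] at hle
  exact MonoidHom.ext fun x => hle (Subgroup.mem_top x)

/-- A finite group whose elements satisfy `x² = 1` or `x³ = 1` is solvable. -/
theorem isSolvable_of_orders {G : Type*} [Group G] [Finite G]
    (h : ∀ x : G, x ^ 2 = 1 ∨ x ^ 3 = 1) : Group.IsSolvable G := by
  refine Cfsg.Agent.Lib.Induced.Burnside.isSolvable_of_card_eq 2 3 ((Nat.card G).factorization 2)
    ((Nat.card G).factorization 3) Nat.prime_two Nat.prime_three ?_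
  have hn : Nat.card G ≠ 0 := Nat.card_pos.ne'
  refine Nat.eq_of_factorization_eq hn (by positivity) fun q => ?_
  rw [Nat.factorization_mul (by positivity) (by positivity), Nat.prime_two.factorization_pow,
    Nat.prime_three.factorization_pow, Finsupp.add_apply, Finsupp.single_apply, Finsupp.single_apply]
  by_cases hq : q = 2
  · subst hq; simp
  by_cases hq3 : q = 3
  · subst hq3; simp
  rw [if_neg (Ne.symm hq), if_neg (Ne.symm hq3), add_zero]
  by_contra hne
  have hp : q.Prime := Nat.prime_of_mem_primeFactors (Nat.support_factorization _ ▸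
    Finsupp.mem_support_iff.2 hne)
  have : Fact q.Prime := ⟨hp⟩
  obtain ⟨g, hg⟩ := exists_prime_orderOf_dvd_card' (G := G) q
    (Nat.dvd_of_factorization_pos hne)
  rcases h g with h2 | h3
  · exact hq ((Nat.prime_dvd_prime_iff_eq hp Nat.prime_two).1 (hg ▸ orderOf_dvd_of_pow_eq_one h2))
  · exact hq3 ((Nat.prime_dvd_prime_iff_eq hp Nat.prime_three).1 (hg ▸ orderOf_dvd_of_pow_eq_one h3))

end Cfsg.Agent.Lib.OffenderComp
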