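import Cfsg.Agent.Lib.OffenderComp.Trace
import Mathlib.Tactic.LinearCombination

/-!
# Twists on a slot

Owner: helper54. `du b x w = x^b w + x w`. If `b₀` inverts `x` on the slot, with invertible trace,
then no other quadratic element `b` has `du b x ^ 2 = 0` unless `du b x = 0` and `b` centralises
`K` there.
-/

namespace Cfsg.Agent.Lib.OffenderComp

variable {V : Type*} [AddCommGroup V] [Module (ZMod 2) V]
  {K : Subgroup (V ≃ₗ[ZMod 2] V)} {a b b₀ x : V ≃ₗ[ZMod 2] V} {R₀ : Submodule (ZMod 2) V}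

/-- `x^b + x`. -/
def du (b x : V ≃ₗ[ZMod 2] V) : V →ₗ[ZMod 2] V :=
  (b * x * b⁻¹ : V ≃ₗ[ZMod 2] V).toLinearMap + x.toLinearMap

theorem du_apply (b x : V ≃ₗ[ZMod 2] V) (w : V) : du b x w = (b * x * b⁻¹) w + x w := rfl

theorem du_mem {w : V} (hb : b * x * b⁻¹ ∈ K) (hx : x ∈ K) (hw : w ∈ kspan K R₀) :
    du b x w ∈ kspan K R₀ := add_mem (kspan_inv hb hw) (kspan_inv hx hw)

/-- an operator normalising `K` and fixing `R₀` preserves `kspan K R₀` -/
theorem kspan_stable (hb : ∀ x ∈ K, b * x * b⁻¹ ∈ K) (hbr : ∀ r ∈ R₀, b r = r) {w : V}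
    (hw : w ∈ kspan K R₀) : b w ∈ kspan K R₀ := by
  induction hw using Submodule.span_induction with
  | mem s hs =>
    obtain ⟨g, hg, r, hr, rfl⟩ := hs
    have e : b (g r) = (b * g * b⁻¹) r := by
      rw [mul_app, mul_app, fix_inv (hbr r hr)]
    rw [e]; exact mem_kspan (hb g hg) hr
  | zero => simp
  | add u v _ _ hu hv => rw [map_add]; exact add_mem hu hv
  | smul c u _ hu => rw [map_smul]; exact Submodule.smul_mem _ c hu

theorem kspan_stable_inv [Finite V] (hb : ∀ x ∈ K, b * x * b⁻¹ ∈ K) (hbr : ∀ r ∈ R₀, b r = r)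
    {w : V} (hw : w ∈ kspan K R₀) : b⁻¹ w ∈ kspan K R₀ := by
  let f : kspan K R₀ → kspan K R₀ := fun w => ⟨b w, kspan_stable hb hbr w.2⟩
  have hf : Function.Injective f := fun u v h => Subtype.ext (b.injective (congrArg Subtype.val h))
  obtain ⟨u, hu⟩ := Finite.injective_iff_surjective.1 hf ⟨w, hw⟩
  have : b (u : V) = w := congrArg Subtype.val hu
  rw [← this, inv_app_app]; exact u.2

variable (S : Slot K a R₀)
include S

theorem Slot.tr_conj (hb : ∀ x ∈ K, b * x * b⁻¹ ∈ K) (hbr : ∀ r ∈ R₀, b r = r)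
    {g : V ≃ₗ[ZMod 2] V} (hg : g ∈ K) {w : V} (hw : w ∈ kspan K R₀) :
    tr (b * g * b⁻¹) w = tr g w := by
  refine S.ext (fun k hk v => S.tr_commute (hb g hg) hk v) (fun k hk v => S.tr_commute hg hk v)
    (fun r hr => ?_) w hw
  have e : (b * g * b⁻¹)⁻¹ r = b (g⁻¹ r) := by
    rw [mul_inv_rev, mul_inv_rev, inv_inv, mul_app, mul_app, fix_inv (hbr r hr)]
  rw [tr_apply, e, mul_app, mul_app, fix_inv (hbr r hr), ← map_add, ← tr_apply]
  exact hbr _ (S.tmem g hg r hr)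

theorem Slot.du_commute (hb : b * x * b⁻¹ ∈ K) (hx : x ∈ K) {g : V ≃ₗ[ZMod 2] V} (hg : g ∈ K)
    (v : V) : du b x ((a * g * a⁻¹) v) = (a * g * a⁻¹) (du b x v) := by
  rw [du_apply, du_apply, map_add, S.commute hb hg, S.commute hx hg]

/-- `cc b x y` -/
noncomputable def Slot.cc (_S : Slot K a R₀) (b x y : V ≃ₗ[ZMod 2] V) : Module.End (ZMod 2) V :=
  tr (b * x * b⁻¹ * y) + tr (x * y)

theorem Slot.cc_mem (hb : b * x * b⁻¹ ∈ K) (hx : x ∈ K) {y : V ≃ₗ[ZMod 2] V} (hy : y ∈ K) :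
    S.cc b x y ∈ S.scal := add_mem (S.scal_tr (mul_mem hb hy)) (S.scal_tr (mul_mem hx hy))

/-- `u y + y u = (tr y) u + c` -/
theorem Slot.star (hb : ∀ x ∈ K, b * x * b⁻¹ ∈ K) (hbr : ∀ r ∈ R₀, b r = r) (hx : x ∈ K)
    {y : V ≃ₗ[ZMod 2] V} (hy : y ∈ K) {w : V} (hw : w ∈ kspan K R₀) :
    du b x (y w) + y (du b x w) = tr y (du b x w) + S.cc b x y w := by
  have h1 := S.polar (hb x hx) hy hw
  have h2 := S.polar hx hy hw
  rw [S.tr_conj hb hbr hx (kspan_inv hy hw), S.tr_conj hb hbr hx (kspan_tr hy hw)] at h1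
  have h2z : ∀ v : V, v + v = 0 := two_add
  rw [du_apply, du_apply, map_add y, map_add (tr y)]
  simp only [Slot.cc, LinearMap.add_apply]
  calc (b * x * b⁻¹) (y w) + x (y w) + (y ((b * x * b⁻¹) w) + y (x w))
      = ((b * x * b⁻¹) (y w) + y ((b * x * b⁻¹) w)) + (x (y w) + y (x w)) := by abel
    _ = (tr y ((b * x * b⁻¹) w) + tr y (x w) + (tr (b * x * b⁻¹ * y) w + tr (x * y) w))
        + (tr x (y w) + tr x (y w)) + (tr x (tr y w) + tr x (tr y w)) := by rw [h1, h2]; abel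
    _ = _ := by rw [h2z, h2z, add_zero, add_zero]

/-- `u² = c` -/
theorem Slot.du_sq (hb : ∀ x ∈ K, b * x * b⁻¹ ∈ K) (hbr : ∀ r ∈ R₀, b r = r) (hx : x ∈ K)
    {w : V} (hw : w ∈ kspan K R₀) : du b x (du b x w) = S.cc b x x w := by
  have h1 := S.star hb hbr hx hx hw
  set X := b * x * b⁻¹ with hX
  have hXK : X ∈ K := hb x hx
  have e1 : X (X w) = tr x (X w) + w := by
    rw [sq_app, S.tr_conj hb hbr hx (kspan_inv hXK hw)]
  have e2 := sq_app x w
  have e3 : du b x (x w) + x (du b x w) = X (x w) + x (X w) := by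
    rw [du_apply, du_apply, map_add, ← hX]
    calc X (x w) + x (x w) + (x (X w) + x (x w))
        = X (x w) + x (X w) + (x (x w) + x (x w)) := by abel
      _ = _ := by rw [two_add, add_zero]
  rw [du_apply, ← hX, du_apply, ← hX, map_add X, map_add x, e1, e2]
  rw [e3, du_apply, ← hX, map_add (tr x)] at h1
  calc tr x (X w) + w + X (x w) + (x (X w) + (tr x (x w) + w))
      = (X (x w) + x (X w)) + (tr x (X w) + tr x (x w)) + (w + w) := by abel
    _ = S.cc b x x w + ((tr x (X w) + tr x (x w)) + (tr x (X w) + tr x (x w))) + (w + w) := by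
        rw [h1]; abel
    _ = _ := by rw [two_add, two_add, add_zero, add_zero]

/-- the kernel of `b ↦ u²` -/
theorem Slot.du_eq_zero [Finite V] (hK : IsQS K) (hb : ∀ x ∈ K, b * x * b⁻¹ ∈ K)
    (hbr : ∀ r ∈ R₀, b r = r) (hb0 : ∀ x ∈ K, b₀ * x * b₀⁻¹ ∈ K) (hb0r : ∀ r ∈ R₀, b₀ r = r)
    (hcomm : b * b₀ = b₀ * b) (hquad : ∀ v, b (b₀ v - v) = b₀ v - v)
    (hx : x ∈ K) (hinv : ∀ w ∈ kspan K R₀, (b₀ * x * b₀⁻¹) w = x⁻¹ w)
    (htx : ∀ w ∈ kspan K R₀, tr x w = 0 → w = 0) (huu : ∀ w ∈ kspan K R₀, du b x (du b x w) = 0)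
    (hbK : ∃ y ∈ K, b * y ≠ y * b) : False := by
  have h2z : ∀ v : V, v + v = 0 := two_add
  have huW : ∀ w ∈ kspan K R₀, du b x w ∈ kspan K R₀ := fun w hw => du_mem (hb x hx) hx hw
  have hut : ∀ {g : V ≃ₗ[ZMod 2] V}, g ∈ K → ∀ w ∈ kspan K R₀,
      du b x (tr g w) = tr g (du b x w) := by
    intro g hg w hw
    rw [du_apply, du_apply, map_add, S.tr_central hg (hb x hx) hw, S.tr_central hg hx hw]
  have hbb0 : ∀ y ∈ K, (b * b₀) * y * (b * b₀)⁻¹ ∈ K := fun y hy => by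
    have := hb _ (hb0 y hy)
    convert this using 1; group
  -- `D_b D₀ = 0`
  have q1 : ∀ y ∈ K, ∀ w ∈ kspan K R₀,
      ((b * b₀) * y * (b * b₀)⁻¹) w = du b y w + du b₀ y w + y w := by
    intro y hy w hw
    refine S.ext (P := ((b * b₀) * y * (b * b₀)⁻¹ : V ≃ₗ[ZMod 2] V).toLinearMap)
      (Q := du b y + du b₀ y + y.toLinearMap)
      (fun g hg v => S.commute (hbb0 y hy) hg v) (fun g hg v => ?_) (fun r hr => ?_) w hw
    · simp only [LinearMap.add_apply, LinearEquiv.coe_coe, map_add,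
        S.du_commute (hb y hy) hy hg, S.du_commute (hb0 y hy) hy hg, S.commute hy hg]
    · simp only [LinearMap.add_apply, LinearEquiv.coe_coe, du_apply]
      have e : ((b * b₀) * y * (b * b₀)⁻¹) r = b (b₀ (y r)) := by
        rw [mul_inv_rev, mul_app, mul_app, mul_app, mul_app, fix_inv (hbr r hr),
          fix_inv (hb0r r hr)]
      have e1 : (b * y * b⁻¹) r = b (y r) := by rw [mul_app, mul_app, fix_inv (hbr r hr)]
      have e2 : (b₀ * y * b₀⁻¹) r = b₀ (y r) := by rw [mul_app, mul_app, fix_inv (hb0r r hr)]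
      rw [e, e1, e2]
      have h := hquad (y r)
      rw [two_sub, map_add] at h
      calc b (b₀ (y r)) = b (b₀ (y r)) + b (y r) + b (y r) := by
            rw [add_assoc, h2z, add_zero]
        _ = b₀ (y r) + y r + b (y r) + (y r + y r) := by rw [h, h2z, add_zero]
        _ = _ := by abel
  -- `t v = u w`
  have hinvb : ∀ w ∈ kspan K R₀, ((b * b₀) * x * (b * b₀)⁻¹) w = (b * x * b⁻¹)⁻¹ w := by
    intro w hw
    have e : (b * b₀) * x * (b * b₀)⁻¹ = b * (b₀ * x * b₀⁻¹) * b⁻¹ := by group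
    rw [e, mul_app, mul_app, hinv _ (kspan_stable_inv hb hbr hw), mul_inv_rev, mul_inv_rev,
      inv_inv, mul_app, mul_app]
  have q2 : ∀ y ∈ K, ∀ w ∈ kspan K R₀, tr x (du b y w) = du b x (du b₀ y w) := by
    intro y hy w hw
    have h := q1 (x * y) (mul_mem hx hy) w hw
    have e : (b * b₀) * (x * y) * (b * b₀)⁻¹ =
        ((b * b₀) * x * (b * b₀)⁻¹) * ((b * b₀) * y * (b * b₀)⁻¹) := by group
    have e1 : b * (x * y) * b⁻¹ = (b * x * b⁻¹) * (b * y * b⁻¹) := by group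
    have e2 : b₀ * (x * y) * b₀⁻¹ = (b₀ * x * b₀⁻¹) * (b₀ * y * b₀⁻¹) := by group
    rw [e, mul_app, hinvb _ (kspan_inv (hbb0 y hy) hw), du_apply b, du_apply b₀, e1, e2, q1 y hy w hw,
      mul_app (b * x * b⁻¹), mul_app (b₀ * x * b₀⁻¹), hinv _ (kspan_inv (hb0 y hy) hw),
      mul_app x y] at h
    set X := b * x * b⁻¹ with hX
    have hXK : X ∈ K := hb x hx
    set Y := (b * y * b⁻¹) w with hY
    set Z := (b₀ * y * b₀⁻¹) w with hZ
    set T := y w with hT
    have hYW : Y ∈ kspan K R₀ := kspan_inv (hb y hy) hw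
    have hZW : Z ∈ kspan K R₀ := kspan_inv (hb0 y hy) hw
    have hTW : T ∈ kspan K R₀ := kspan_inv hy hw
    rw [du_apply b y, du_apply b₀ y, ← hY, ← hZ, ← hT] at h ⊢
    have hXs : ∀ s ∈ kspan K R₀, X⁻¹ s = tr x s + X s := fun s hs => by
      rw [inv_app_eq_tr, S.tr_conj hb hbr hx hs]
    rw [map_add X⁻¹, map_add X⁻¹, map_add X⁻¹, map_add X⁻¹, hXs Y hYW, hXs T hTW, hXs Z hZW,
      inv_app_eq_tr x Z] at h
    rw [map_add, map_add, du_apply, du_apply, ← hX]
    linear_combination (norm := (match_scalars <;> decide)) (1 : ZMod 2) • h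
  -- `y^b u = u y^{b₀}`
  have q3 : ∀ y ∈ K, ∀ w ∈ kspan K R₀,
      (b * y * b⁻¹) (du b x w) = du b x ((b₀ * y * b₀⁻¹) w) := by
    intro y hy w hw
    have h := q2 (y * x) (mul_mem hy hx) w hw
    have hxw := kspan_inv hx hw
    have hq := q2 y hy (x w) hxw
    have e1 : du b (y * x) w = (b * y * b⁻¹) (du b x w) + du b y (x w) := by
      rw [du_apply, du_apply, du_apply, map_add]
      have : b * (y * x) * b⁻¹ = (b * y * b⁻¹) * (b * x * b⁻¹) := by group
      rw [this, mul_app (b * y * b⁻¹), mul_app y x]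
      calc (b * y * b⁻¹) ((b * x * b⁻¹) w) + y (x w)
          = (b * y * b⁻¹) ((b * x * b⁻¹) w) + y (x w) +
            ((b * y * b⁻¹) (x w) + (b * y * b⁻¹) (x w)) := by rw [h2z, add_zero]
        _ = _ := by abel
    have e2 : du b₀ (y * x) w = tr x ((b₀ * y * b₀⁻¹) w) + du b₀ y (x w) := by
      rw [du_apply, du_apply]
      have : b₀ * (y * x) * b₀⁻¹ = (b₀ * y * b₀⁻¹) * (b₀ * x * b₀⁻¹) := by group
      rw [this, mul_app (b₀ * y * b₀⁻¹), mul_app y x, hinv w hw, inv_app_eq_tr, map_add,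
        ← S.tr_central hx (hb0 y hy) hw]
      abel
    rw [e1, e2, map_add, map_add, hq, hut hx _ (kspan_inv (hb0 y hy) hw)] at h
    have h' := add_right_cancel h
    refine sub_eq_zero.1 (htx _ (sub_mem (kspan_inv (hb y hy) (huW w hw))
      (huW _ (kspan_inv (hb0 y hy) hw))) ?_)
    rw [map_sub, h', sub_self]
  -- `u` kills `y u`
  have q4 : ∀ y ∈ K, ∀ w ∈ kspan K R₀, du b x (y (du b x w)) = 0 := by
    intro y hy w hw
    have huw := huW w hw
    have h := congrArg (du b x) (q3 y hy w hw)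
    rw [huu _ (kspan_inv (hb0 y hy) hw)] at h
    have e : (b * y * b⁻¹) (du b x w) = du b y (du b x w) + y (du b x w) := by
      rw [du_apply b y, add_assoc, h2z, add_zero]
    rw [e, map_add] at h
    have hz : du b x (du b y (du b x w)) = 0 := by
      refine htx _ (huW _ (du_mem (hb y hy) hy huw)) ?_
      rw [← hut hx _ (du_mem (hb y hy) hy huw), q2 y hy _ huw,
        huu _ (du_mem (hb0 y hy) hy huw)]
    rwa [hz, zero_add] at h
  -- so `u = 0`
  have q5 : ∀ w ∈ kspan K R₀, du b x w = 0 := by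
    have hcc : ∀ y ∈ K, ∀ w ∈ kspan K R₀, S.cc b x y (du b x w) = 0 := fun y hy w hw => by
      have h := S.star hb hbr hx hy (huW w hw)
      rw [q4 y hy w hw, huu w hw, map_zero, map_zero, zero_add, zero_add] at h
      exact h.symm
    by_cases hne : ∀ y ∈ K, ∀ w ∈ kspan K R₀, S.cc b x y w = 0
    · intro w hw
      have hswap : ∀ y ∈ K, ∀ w ∈ kspan K R₀, du b x (y w) = y⁻¹ (du b x w) := by
        intro y hy w hw
        have h := S.star hb hbr hx hy hw
        rw [hne y hy w hw, add_zero] at h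
        rw [inv_app_eq_tr, ← h, add_assoc, h2z, add_zero]
      have hfix : Fix K (du b x w) := fixed_of_comm_mod hK.perfect fun g hg k hk => by
        have h1 := hswap _ (mul_mem (inv_mem hg) (inv_mem hk)) w hw
        rw [mul_app g⁻¹ k⁻¹, hswap g⁻¹ (inv_mem hg) _ (kspan_inv (inv_mem hk) hw), inv_inv,
          hswap k⁻¹ (inv_mem hk) w hw, inv_inv, mul_inv_rev, inv_inv, inv_inv, mul_app k g] at h1
        rw [h1, sub_self]
        exact Fix.zero
      exact htx _ (huW w hw) (tr_eq_zero_of_fix (hfix x hx))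
    · push Not at hne
      obtain ⟨y, hy, w0, hw0, hne⟩ := hne
      rcases S.scal_zero_or_inj (S.cc_mem (hb x hx) hx hy) with h0 | ⟨hi, -⟩
      · exact absurd (h0 w0 hw0) hne
      · exact fun w hw => hi _ (huW w hw) (hcc y hy w hw)
  -- hence `b` centralises `K` on the slot
  obtain ⟨g, hg, r, hr, hne⟩ := S.nonzero
  refine hne (tr_eq_zero_of_fix ?_)
  refine fixed_of_twist hK hb hbK (kspan K R₀ : Set V) (fun g hg w hw => kspan_inv hg hw)
    (fun y hy w hw => ?_) r (le_kspan hr) g hg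
  have h := q2 y hy w hw
  rw [q5 _ (du_mem (hb0 y hy) hy hw)] at h
  have := htx _ (du_mem (hb y hy) hy hw) h
  rw [two_sub, ← du_apply, this]
  exact Fix.zero

end Cfsg.Agent.Lib.OffenderComp
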