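import Cfsg.Agent.Lib.OffenderComp.Three
import Mathlib.Algebra.Module.LinearMap.End
import Mathlib.Tactic.NoncommRing

/-!
# Odd characteristic: a quadratic element fixes every conjugate

Owner: helper54. If `2` is invertible and `a` is quadratic, `K` cannot commute with both
`aKa⁻¹` and `a⁻¹Ka`.
-/

namespace Cfsg.Agent.Lib.OffenderComp

theorem conj_commutator_eq {E : Type*} [Ring E] {N x y : E} (hN : N * N = 0)
    (h2 : ∀ e : E, e + e = 0 → e = 0)
    (h1 : ∀ u w : E, (u = x ∧ w = y ∨ u = y ∧ w = x) →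
      (1 + N) * u * (1 - N) * w = w * ((1 + N) * u * (1 - N)) ∧
        (1 - N) * u * (1 + N) * w = w * ((1 - N) * u * (1 + N))) :
    (1 + N) * (x * y - y * x) * (1 - N) = x * y - y * x := by
  have hN' : ∀ c : E, N * (N * c) = 0 := fun c => by rw [← mul_assoc, hN, zero_mul]
  have key : ∀ u w : E, (u = x ∧ w = y ∨ u = y ∧ w = x) →
      (1 + N) * (u * w - w * u) * (1 - N) = (u * w - w * u) - (N * u * N * w * N + N * w * N * u * N) := by
    intro u w h
    obtain ⟨ha, hb⟩ := h1 u w h
    have e : N * u * N * w - w * (N * u * N) = u * w - w * u := by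
      refine (sub_eq_zero.1 (h2 _ ?_))
      have e3 := congrArg₂ (· + ·) ha hb
      have e4 := sub_eq_zero.2 e3.symm
      rw [← e4]
      simp only [mul_add, add_mul, mul_sub, sub_mul, mul_one, one_mul, mul_assoc]
      abel
    rw [← e]
    simp only [mul_add, add_mul, mul_sub, sub_mul, mul_one, one_mul, mul_assoc, hN, hN', zero_mul, add_zero, sub_zero,
      mul_zero]
    abel
  have k1 := key x y (Or.inl ⟨rfl, rfl⟩)
  have k2 := key y x (Or.inr ⟨rfl, rfl⟩)
  have h0 : N * x * N * y * N + N * y * N * x * N = 0 := by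
    refine h2 _ ?_
    have k3 : (1 + N) * (x * y - y * x) * (1 - N) + (1 + N) * (y * x - x * y) * (1 - N) = 0 := by
      rw [← add_mul, ← mul_add, sub_add_sub_cancel, sub_self, mul_zero, zero_mul]
    rw [k1, k2] at k3
    have k4 := neg_eq_zero.2 k3
    rw [← k4]; abel
  rw [k1, h0, sub_zero]

variable {R : Type*} [CommRing R] {V : Type*} [AddCommGroup V] [Module R V]
  {K : Subgroup (V ≃ₗ[R] V)}

theorem false_of_quadratic_moving [Finite V] (hK : IsQS K) (h2 : IsUnit (2 : R)) {a : V ≃ₗ[R] V}
    (hq : ∀ v, a (a v - v) = a v - v) (h1 : Apart K 1 a) (h1' : Apart K 1 a⁻¹) : False := by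
  set N : Module.End R V := (a.toLinearMap : Module.End R V) - 1 with hN
  have hNN : N * N = 0 := LinearMap.ext fun v => by
    show a (a v - v) - (a v - v) = 0
    rw [hq, sub_self]
  have hp : (1 + N) = (a.toLinearMap : Module.End R V) := add_sub_cancel _ _
  have hm : (1 - N) = ((a⁻¹ : V ≃ₗ[R] V).toLinearMap : Module.End R V) := LinearMap.ext fun v => by
    show v - (a v - v) = a⁻¹ v
    refine (inv_app_eq ?_).symm
    rw [map_sub, hq]; abel
  have h2' : ∀ e : Module.End R V, e + e = 0 → e = 0 := fun e he => LinearMap.ext fun v => by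
    obtain ⟨c, hc⟩ := h2.exists_left_inv
    have : e v + e v = 0 := LinearMap.congr_fun he v
    calc e v = (c * 2 : R) • e v := by rw [hc, one_smul]
      _ = c • (e v + e v) := by rw [mul_smul, two_smul]
      _ = 0 := by rw [this, smul_zero]
  -- the additive commutators commute with `K`
  have hz : ∀ x ∈ K, ∀ y ∈ K, ∀ w ∈ K, ∀ v,
      x (y (w v)) - y (x (w v)) = w (x (y v) - y (x v)) := by
    intro x hx y hy w hw v
    have hc := conj_commutator_eq (x := (x.toLinearMap : Module.End R V))
      (y := (y.toLinearMap : Module.End R V)) hNN h2' (fun u s h => by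
        rcases h with ⟨rfl, rfl⟩ | ⟨rfl, rfl⟩ <;> constructor <;>
          (rw [hp, hm]; ext t)
        · simpa [mul_app] using (h1.symm.app hx hy t)
        · simpa [mul_app] using (h1'.symm.app hx hy t)
        · simpa [mul_app] using (h1.symm.app hy hx t)
        · simpa [mul_app] using (h1'.symm.app hy hx t))
    rw [hp, hm] at hc
    have hcv : ∀ t, x (y t) - y (x t) = (a * x * a⁻¹) ((a * y * a⁻¹) t) -
        (a * y * a⁻¹) ((a * x * a⁻¹) t) := fun t => by
      have := LinearMap.congr_fun hc t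
      simp only [Module.End.mul_apply, LinearMap.sub_apply, LinearEquiv.coe_coe] at this
      rw [← this]
      simp [mul_app, map_sub, inv_app_app]
    have hw1 : ∀ t, ∀ u ∈ K, (a * u * a⁻¹) (w t) = w ((a * u * a⁻¹) t) := fun t u hu => by
      simpa [mul_app] using h1.symm.app hu hw t
    rw [hcv, hcv, hw1 v y hy, hw1 v x hx, hw1 _ x hx, hw1 _ y hy, map_sub]
  suffices H : ∀ n, ∀ U : Submodule R V, Nat.card U ≤ n → (∀ g ∈ K, ∀ v ∈ U, g v ∈ U) →
      ∀ v ∈ U, Fix K v by
    exact hK.ne_bot (eq_bot_iff.2 fun g hg => Subgroup.mem_bot.2 (LinearEquiv.ext fun v =>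
      H _ ⊤ le_rfl (fun _ _ _ _ => Submodule.mem_top) v Submodule.mem_top g hg))
  intro n
  induction n with
  | zero =>
    intro U hn _
    have : 0 < Nat.card U := Nat.card_pos
    omega
  | succ n ih =>
    intro U hn hU v hv
    refine fixed_of_comm_mod hK.perfect fun x hx y hy => ?_
    set Z : V →ₗ[R] V := x.toLinearMap.comp y.toLinearMap - y.toLinearMap.comp x.toLinearMap with hZ
    have hZa : ∀ t, Z t = x (y t) - y (x t) := fun t => rfl
    set U' : Submodule R V := U.map Z with hU'
    have hU'U : U' ≤ U := by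
      rintro _ ⟨w, hw, rfl⟩
      rw [hZa]; exact sub_mem (hU x hx _ (hU y hy w hw)) (hU y hy _ (hU x hx w hw))
    have hinv : ∀ g ∈ K, ∀ w ∈ U', g w ∈ U' := by
      rintro g hg _ ⟨w, hw, rfl⟩
      exact ⟨g w, hU g hg w hw, by rw [hZa, hZa]; exact hz x hx y hy g hg w⟩
    -- `Z` squares to zero
    have hZx : ∀ t, Z (x t) = x (y (x t)) - y (x (x t)) := fun t => rfl
    have hZ2 : ∀ t, Z (Z t) = 0 := by
      intro t
      have e1 := hz x hx (y * x) (mul_mem hy hx) y hy t
      simp only [mul_app] at e1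
      -- `Z x` commutes with `y`
      have e2 : Z (x (y t)) = y (Z (x t)) := by rw [hZa, hZa]; exact e1
      have e3 : Z (y (x t)) = y (Z (x t)) := by rw [hZa, hZa]; exact hz x hx y hy y hy (x t)
      rw [hZa t, map_sub, e2, e3, sub_self]
    by_cases hU0 : ∀ w ∈ U, w = 0
    · rw [hU0 _ (sub_mem (hU x hx _ (hU y hy v hv)) (hU y hy _ (hU x hx v hv)))]
      exact Fix.zero
    · have hlt : U' < U := by
        refine lt_of_le_of_ne hU'U fun heq => hU0 fun w hw => ?_
        obtain ⟨w₁, hw₁, rfl⟩ := (heq.ge hw : w ∈ U')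
        obtain ⟨w₂, hw₂, rfl⟩ := (heq.ge hw₁ : w₁ ∈ U')
        exact hZ2 w₂
      have hcard : Nat.card U' ≤ n := by
        have : Nat.card U' < Nat.card U := by
          rw [← SetLike.coe_sort_coe, ← SetLike.coe_sort_coe, Nat.card_coe_set_eq,
            Nat.card_coe_set_eq]
          exact Set.ncard_lt_ncard hlt (Set.toFinite _)
        omega
      exact ih U' hcard hinv _ ⟨v, hv, hZa v⟩

end Cfsg.Agent.Lib.OffenderComp
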