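import Cfsg.Agent.Lib.OffenderComp.Trace
import Cfsg.Agent.Lib.OffenderComp.GroupFacts
import Mathlib.Data.Fintype.Pi

/-!
# A slot with at least four elements

Owner: helper54.
-/

namespace Cfsg.Agent.Lib.OffenderComp

open scoped commutatorElement

variable {V : Type*} [AddCommGroup V] [Module (ZMod 2) V]
  {K : Subgroup (V ≃ₗ[ZMod 2] V)} {a : V ≃ₗ[ZMod 2] V} {R₀ : Submodule (ZMod 2) V}

/-- Restriction of `K` to `kspan K R₀`. -/
def restK (K : Subgroup (V ≃ₗ[ZMod 2] V)) (R₀ : Submodule (ZMod 2) V) :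
    K →* (kspan K R₀ ≃ₗ[ZMod 2] kspan K R₀) where
  toFun g :=
    { toFun := fun w => ⟨g.1 w, kspan_inv g.2 w.2⟩
      invFun := fun w => ⟨g.1⁻¹ w, kspan_inv (inv_mem g.2) w.2⟩
      map_add' := fun u w => Subtype.ext (map_add g.1 (u : V) (w : V))
      map_smul' := fun c w => Subtype.ext (map_smul g.1 c (w : V))
      left_inv := fun w => Subtype.ext (inv_app_app g.1 (w : V))
      right_inv := fun w => Subtype.ext (app_inv_app g.1 (w : V)) }
  map_one' := LinearEquiv.ext fun w => Subtype.ext rfl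
  map_mul' g k := LinearEquiv.ext fun w => Subtype.ext rfl

theorem restK_apply (g : K) (w : kspan K R₀) : ((restK K R₀ g w : kspan K R₀) : V) = g.1 w := rfl

theorem restK_eq_one {g : K} (h : restK K R₀ g = 1) {w : V} (hw : w ∈ kspan K R₀) : g.1 w = w := by
  have := congrArg (fun e : kspan K R₀ ≃ₗ[ZMod 2] kspan K R₀ => ((e ⟨w, hw⟩ : kspan K R₀) : V)) h
  exact this

variable [Finite V]

/-- `[V,a]` contains a slot with at least four elements. -/
theorem exists_slot (hK : IsQS K) (ha : a * a = 1) (h : Apart K 1 a) (hd : DiagFix K a) :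
    ∃ R₀ : Submodule (ZMod 2) V, Slot K a R₀ ∧ (∀ r ∈ R₀, ∃ v, r = a v - v) ∧
      4 ≤ Nat.card R₀ := by
  classical
  set R : Submodule (ZMod 2) V := LinearMap.range (a.toLinearMap - LinearMap.id) with hR
  have hRr : ∀ r ∈ R, ∃ v, r = a v - v := fun r hr => by
    obtain ⟨v, rfl⟩ := hr; exact ⟨v, rfl⟩
  have hconj : ∀ x ∈ K, ∀ r ∈ R, (a * x * a⁻¹) r = x⁻¹ r := by
    intro x hx r hr
    obtain ⟨v, rfl⟩ := hRr r hr
    exact hd.conj_eq h hx v
  have htR : ∀ g ∈ K, ∀ r ∈ R, tr g r ∈ R := by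
    intro g hg r hr
    refine ⟨g r, ?_⟩
    show a (g r) - g r = tr g r
    obtain ⟨v, rfl⟩ := hRr r hr
    have e : a (g (a v - v)) = (a * g * a⁻¹) (a v - v) := by
      have ha2 : ∀ w, a (a w) = w := fun w => by
        rw [← mul_app, ha]; rfl
      have e2 : a⁻¹ (a v - v) = a v - v := inv_app_eq (by
        rw [map_sub, ha2, two_sub, two_sub, add_comm])
      rw [mul_app, mul_app, e2]
    rw [e, hd.conj_eq h hg, two_sub, tr_apply, add_comm]
  have htKR : ∀ g ∈ K, ∀ k ∈ K, ∀ r ∈ R, tr g (k r) = k (tr g r) := by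
    intro g hg k hk r hr
    have e : k r = (a * k⁻¹ * a⁻¹) r := by rw [hconj _ (inv_mem hk) r hr, inv_inv]
    have c : tr g ((a * k⁻¹ * a⁻¹) r) = (a * k⁻¹ * a⁻¹) (tr g r) := by
      rw [tr_apply, tr_apply, map_add, h.one_app hg (inv_mem hk),
        h.one_app (inv_mem hg) (inv_mem hk)]
    rw [e, c, hconj _ (inv_mem hk) _ (htR g hg r hr), inv_inv]
  -- some trace is not nilpotent on `R`
  have hnil : ∃ g ∈ K, ∀ n, ∃ r ∈ R, ((tr g) ^ n) r ≠ 0 := by
    by_contra hall
    push Not at hall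
    have hpowR : ∀ g ∈ K, ∀ j, ∀ r ∈ R, ((tr g) ^ j) r ∈ R := by
      intro g hg j
      induction j with
      | zero => intro r hr; exact hr
      | succ j ih =>
        intro r hr
        rw [pow_succ, Module.End.mul_apply]
        exact ih _ (htR g hg r hr)
    refine false_of_fixed hK h hd fun v => ?_
    by_contra hv
    have hlist : ∀ l : List (V ≃ₗ[ZMod 2] V), (∀ g ∈ l, g ∈ K) →
        ∃ r ∈ R, ¬ Fix K r ∧ ∀ g ∈ l, Fix K (tr g r) := by
      intro l hl
      induction l with
      | nil => exact ⟨a v - v, ⟨v, rfl⟩, hv, by simp⟩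
      | cons g l ih =>
        obtain ⟨r, hr, hrf, hrl⟩ := ih fun c hc => hl c (List.mem_cons_of_mem _ hc)
        have hg := hl g (by simp)
        obtain ⟨n, hn⟩ := hall g hg
        have hex : ∃ k, Fix K (((tr g) ^ k) r) := ⟨n, by rw [hn r hr]; exact Fix.zero⟩
        have hk : Nat.find hex ≠ 0 := fun h0 => hrf (by
          have := Nat.find_spec hex
          rwa [h0, pow_zero] at this)
        obtain ⟨k, hk⟩ : ∃ k, Nat.find hex = k + 1 := ⟨Nat.find hex - 1, by omega⟩
        refine ⟨((tr g) ^ k) r, hpowR g hg k r hr, Nat.find_min hex (by omega), ?_⟩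
        intro c hc
        rcases List.mem_cons.1 hc with rfl | hc
        · rw [← Module.End.mul_apply, ← pow_succ', ← hk]
          exact Nat.find_spec hex
        · have hc' := hl c (List.mem_cons_of_mem _ hc)
          have hcomm : ∀ j, ∀ r ∈ R, tr c (((tr g) ^ j) r) = ((tr g) ^ j) (tr c r) := by
            intro j
            induction j with
            | zero => intro r _; rfl
            | succ j ihj =>
              intro r hr
              rw [pow_succ, Module.End.mul_apply, Module.End.mul_apply, ihj _ (htR g hg r hr)]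
              congr 1
              rw [tr_apply c, tr_apply c, map_add, htKR g hg c hc' r hr,
                htKR g hg c⁻¹ (inv_mem hc') r hr]
          rw [hcomm k r hr]
          have : ∀ j, ∀ u, Fix K u → Fix K (((tr g) ^ j) u) := by
            intro j
            induction j with
            | zero => intro u hu; exact hu
            | succ j ihj =>
              intro u hu
              rw [pow_succ, Module.End.mul_apply]
              exact ihj _ (by rw [tr_eq_zero_of_fix (hu g hg)]; exact Fix.zero)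
          exact this k _ (hrl c hc)
    have : Finite (V ≃ₗ[ZMod 2] V) := Finite.of_injective (fun e => (e : V → V)) DFunLike.coe_injective
    cases nonempty_fintype K
    obtain ⟨r, hr, hrf, hrt⟩ := hlist ((Finset.univ : Finset K).toList.map Subtype.val)
      (fun g hg => by obtain ⟨⟨c, hc⟩, -, rfl⟩ := List.mem_map.1 hg; exact hc)
    have ht : ∀ g ∈ K, Fix K (tr g r) := fun g hg =>
      hrt g (List.mem_map.2 ⟨⟨g, hg⟩, by simp, rfl⟩)
    apply hrf
    -- squares fix `K r` modulo fixed points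
    have hinvr : ∀ g ∈ K, ∀ k ∈ K, Fix K (g⁻¹ (k r) - g (k r)) := fun g hg k hk => by
      rw [two_sub, add_comm, ← tr_apply, htKR g hg k hk r hr]
      exact (ht g hg).app hk
    refine fixed_of_comm_mod hK.perfect fun g hg k hk => ?_
    set e := (1 : V ≃ₗ[ZMod 2] V) with he
    have h1 := hinvr (g * k) (mul_mem hg hk) 1 (one_mem K)
    have h3 := hinvr g hg 1 (one_mem K)
    have h4 := (hinvr k hk g hg).sub (Fix.zero (K := K))
    have e1 : (g * k)⁻¹ r = k⁻¹ (g⁻¹ r) := by rw [mul_inv_rev, mul_app]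
    simp only [LinearEquiv.coe_one, id_eq, mul_app, e1, sub_zero] at h1 h3 h4
    -- `g k r ≡ k⁻¹ g⁻¹ r ≡ k⁻¹ g r ≡ k g r`
    have h5 : Fix K (k⁻¹ (g⁻¹ r - g r)) := h3.app (inv_mem hk)
    have : g (k r) - k (g r) =
        -(k⁻¹ (g⁻¹ r) - g (k r)) + k⁻¹ (g⁻¹ r - g r) + (k⁻¹ (g r) - k (g r)) := by
      rw [map_sub]; abel
    rw [this]
    exact (h1.neg.add h5).add h4
  obtain ⟨g0, hg0, hg0n⟩ := hnil
  -- a minimal invariant submodule with a non-nilpotent trace
  let P : Submodule (ZMod 2) V → Prop := fun U => U ≤ R ∧ (∀ g ∈ K, ∀ r ∈ U, tr g r ∈ U) ∧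
    ∃ g ∈ K, ∀ n, ∃ r ∈ U, ((tr g) ^ n) r ≠ 0
  have : Finite (Submodule (ZMod 2) V) := Finite.of_injective SetLike.coe SetLike.coe_injective
  obtain ⟨U, hU⟩ := (Set.toFinite {U | P U}).exists_minimal ⟨R, le_rfl, htR, g0, hg0, hg0n⟩
  obtain ⟨hUR, hUinv, g, hg, hgn⟩ := hU.1
  have hcommR : ∀ c ∈ K, ∀ r ∈ U, tr c (tr g r) = tr g (tr c r) := by
    intro c hc r hr
    rw [tr_apply c r, map_add, htKR g hg c hc r (hUR hr),
      htKR g hg c⁻¹ (inv_mem hc) r (hUR hr), ← tr_apply]
  -- `tr g` is bijective on `U`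
  have hinj : ∀ r ∈ U, tr g r = 0 → r = 0 := by
    have hle : U.map (tr g) ≤ U := by rintro _ ⟨r, hr, rfl⟩; exact hUinv g hg r hr
    have hPU : P (U.map (tr g)) := by
      refine ⟨hle.trans hUR, ?_, g, hg, fun n => ?_⟩
      · rintro c hc _ ⟨r, hr, rfl⟩
        exact ⟨tr c r, hUinv c hc r hr, (hcommR c hc r hr).symm⟩
      · obtain ⟨r, hr, hne⟩ := hgn (n + 1)
        exact ⟨tr g r, ⟨r, hr, rfl⟩, by rwa [pow_succ, Module.End.mul_apply] at hne⟩
    have heq := le_antisymm hle (hU.2 hPU hle)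
    let f : U → U := fun r => ⟨tr g r, hUinv g hg r r.2⟩
    have hsurj : Function.Surjective f := fun w => by
      obtain ⟨u, hu, huw⟩ := (heq.ge w.2 : (w : V) ∈ U.map (tr g))
      exact ⟨⟨u, hu⟩, Subtype.ext huw⟩
    intro r hr h0
    have := (Finite.injective_iff_surjective.2 hsurj) (a₁ := ⟨r, hr⟩) (a₂ := 0)
      (Subtype.ext (by simp [f, h0]))
    exact congrArg Subtype.val this
  obtain ⟨r1, hr1, hr1n⟩ := hgn 1
  rw [pow_one] at hr1n
  have S : Slot K a U := by
    refine ⟨h, fun x hx r hr => hconj x hx r (hUR hr), hUinv, fun U' hU' hinv' => ?_,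
      g, hg, r1, hr1, hr1n⟩
    by_cases hb : U' = ⊥
    · exact Or.inl hb
    right
    obtain ⟨u, hu, hu0⟩ := U'.exists_mem_ne_zero_of_ne_bot hb
    refine le_antisymm hU' (hU.2 ⟨hU'.trans hUR, hinv', g, hg, fun n => ⟨u, hu, ?_⟩⟩ hU')
    have : ∀ n, ∀ u ∈ U, u ≠ 0 → ((tr g) ^ n) u ≠ 0 := by
      intro n
      induction n with
      | zero => intro u _ h0; exact h0
      | succ n ih =>
        intro u hu h0
        rw [pow_succ, Module.End.mul_apply]
        exact ih _ (hUinv g hg u hu) fun e => h0 (hinj u hu e)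
    exact this n u (hU' hu) hu0
  refine ⟨U, S, fun r hr => hRr r (hUR hr), ?_⟩
  by_contra hlt
  have hr10 : r1 ≠ 0 := fun e => hr1n (by rw [e, map_zero])
  -- otherwise `R₀ = {0, r1}`
  have htwo : ∀ r ∈ U, r = 0 ∨ r = r1 := by
    intro r hr
    by_contra hne
    push Not at hne
    have h4 : r + r1 ∈ U := add_mem hr hr1
    have d : r + r1 ≠ 0 := fun e => hne.2 (by rw [eq_neg_of_add_eq_zero_left e, two_neg])
    have d2 : r + r1 ≠ r1 := fun e => hne.1 (by simpa using e)
    have d3 : r + r1 ≠ r := fun e => hr10 (by simpa using e)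
    have hsub : ({0, r1, r, r + r1} : Set V) ⊆ (U : Set V) := by
      rintro x (rfl | rfl | rfl | rfl)
      exacts [zero_mem U, hr1, hr, h4]
    have hc : ({0, r1, r, r + r1} : Set V).ncard = 4 := by
      have m1 : r ∉ ({r + r1} : Set V) := by rw [Set.mem_singleton_iff]; exact d3.symm
      have m2 : r1 ∉ ({r, r + r1} : Set V) := by
        rw [Set.mem_insert_iff, Set.mem_singleton_iff]
        rintro (e | e)
        exacts [hne.2 e.symm, d2 e.symm]
      have m3 : (0 : V) ∉ ({r1, r, r + r1} : Set V) := by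
        rw [Set.mem_insert_iff, Set.mem_insert_iff, Set.mem_singleton_iff]
        rintro (e | e | e)
        exacts [hr10 e.symm, hne.1 e.symm, d e.symm]
      rw [Set.ncard_insert_of_notMem m3, Set.ncard_insert_of_notMem m2,
        Set.ncard_insert_of_notMem m1, Set.ncard_singleton]
    have := Set.ncard_le_ncard hsub (Set.toFinite _)
    rw [hc, ← Nat.card_coe_set_eq] at this
    exact hlt this
  have horder : ∀ x ∈ (restK K U).range, x ^ 2 = 1 ∨ x ^ 3 = 1 := by
    rintro _ ⟨c, rfl⟩
    rcases htwo _ (hUinv c c.2 r1 hr1) with h0 | h1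
    · left
      have hz : ∀ w ∈ kspan K U, tr c.1 w = 0 := S.ext (Q := 0)
        (fun k hk v => S.tr_commute c.2 hk v) (fun k _ v => by simp)
        (fun r hr => by rcases htwo r hr with rfl | rfl <;> simp [h0])
      refine LinearEquiv.ext fun w => Subtype.ext ?_
      rw [← map_pow, restK_apply]
      show ((c : V ≃ₗ[ZMod 2] V) ^ 2) (w : V) = (w : V)
      rw [pow_two, mul_app, sq_app, hz _ (kspan_inv c.2 w.2), zero_add]
    · right
      have hz : ∀ w ∈ kspan K U, tr c.1 w = w := S.ext (Q := LinearMap.id)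
        (fun k hk v => S.tr_commute c.2 hk v) (fun k _ v => rfl)
        (fun r hr => by rcases htwo r hr with rfl | rfl <;> simp [h1])
      refine LinearEquiv.ext fun w => Subtype.ext ?_
      rw [← map_pow, restK_apply]
      show ((c : V ≃ₗ[ZMod 2] V) ^ 3) (w : V) = (w : V)
      rw [pow_succ, pow_two, mul_app, mul_app, sq_app _ ((c : V ≃ₗ[ZMod 2] V) (w : V)),
        hz _ (kspan_inv c.2 (kspan_inv c.2 w.2)), sq_app _ (w : V), hz _ (kspan_inv c.2 w.2),
        add_assoc, add_comm (w : V), ← add_assoc, two_add, zero_add]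
  have : Finite (kspan K U ≃ₗ[ZMod 2] kspan K U) :=
    Finite.of_injective (fun e => (e : kspan K U → kspan K U)) DFunLike.coe_injective
  have hsolv : Group.IsSolvable (restK K U).range := isSolvable_of_orders fun x => by
    rcases horder x.1 x.2 with h2 | h3
    · exact Or.inl (Subtype.ext h2)
    · exact Or.inr (Subtype.ext h3)
  have hperf : Group.IsPerfect K := Subgroup.isPerfect_iff.mpr hK.perfect
  have hperf' : Group.IsPerfect (restK K U).range := Group.IsPerfect.range _
  have hsub : Subsingleton (restK K U).range := by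
    by_contra hns
    rw [not_subsingleton_iff_nontrivial] at hns
    exact Group.IsPerfect.not_isSolvable _ hsolv
  refine hr1n (tr_eq_zero_of_fix ?_)
  exact restK_eq_one (g := ⟨g, hg⟩)
    (congrArg Subtype.val (Subsingleton.elim ((restK K U).rangeRestrict ⟨g, hg⟩) 1)) (le_kspan hr1)

end Cfsg.Agent.Lib.OffenderComp
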