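import Cfsg.Agent.Lib.OffenderComp.Kernel
import Cfsg.Agent.Lib.OffenderComp.SlotExists
import Mathlib.Tactic.LinearCombination

/-!
# Small quadratic offenders cannot exchange two components

Owner: helper54. If a group `B` of quadratic involutions normalising `K` fixes `[V,a]` and
`|[V,b]| ≤ 2|B|` for `b ∈ B`, and `|[V,a]| ≤ 2` when `B = 1`, then `DiagFix K a` is impossible.
-/

namespace Cfsg.Agent.Lib.OffenderComp

open scoped commutatorElement

variable {V : Type*} [AddCommGroup V] [Module (ZMod 2) V]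
  {K : Subgroup (V ≃ₗ[ZMod 2] V)} {a b : V ≃ₗ[ZMod 2] V} {R₀ : Submodule (ZMod 2) V}

/-- an element inverted by `b` with invertible trace -/
theorem Slot.exists_inverted [Finite V] (S : Slot K a R₀) (hK : IsQS K)
    (hb : ∀ x ∈ K, b * x * b⁻¹ ∈ K) (hbr : ∀ r ∈ R₀, b r = r) (hb2 : b * b = 1)
    (hbK : ∃ y ∈ K, b * y ≠ y * b) :
    ∃ x ∈ K, (∀ w ∈ kspan K R₀, (b * x * b⁻¹) w = x⁻¹ w) ∧
      ∀ w ∈ kspan K R₀, tr x w = 0 → w = 0 := by
  have hzK : ∀ g ∈ K, g⁻¹ * (b * g * b⁻¹) ∈ K := fun g hg => mul_mem (inv_mem hg) (hb g hg)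
  have hbi : b⁻¹ = b := inv_eq_of_mul_eq_one_right hb2
  by_cases hex : ∃ g ∈ K, ∀ w ∈ kspan K R₀, tr (g⁻¹ * (b * g * b⁻¹)) w = 0 → w = 0
  · obtain ⟨g, hg, hi⟩ := hex
    refine ⟨_, hzK g hg, fun w _ => ?_, hi⟩
    congr 1
    simp only [hbi, mul_inv_rev, inv_inv]
    calc b * (g⁻¹ * (b * g * b)) * b = b * g⁻¹ * b * g * (b * b) := by group
      _ = b * g⁻¹ * b * g := by rw [hb2, mul_one]
      _ = _ := by group
  exfalso
  push Not at hex
  set φ := restK K R₀ with hφ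
  let z : K → K := fun g => ⟨g.1⁻¹ * (b * g.1 * b⁻¹), hzK g.1 g.2⟩
  let σ : K → K := fun g => ⟨b * g.1 * b⁻¹, hb g.1 g.2⟩
  have hσ : ∀ g : K, φ (σ g) = φ g * φ (z g) := fun g => by
    rw [← map_mul]; congr 1; exact Subtype.ext (by simp [σ, z])
  have hσmul : ∀ g k : K, φ (σ (g * k)) = φ (σ g) * φ (σ k) := fun g k => by
    rw [← map_mul]; congr 1; exact Subtype.ext (by simp [σ])
  have hsq : ∀ g : K, φ (z g) * φ (z g) = 1 := by
    intro g
    obtain ⟨w0, hw0, h0, hne⟩ := hex g.1 g.2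
    rcases S.scal_zero_or_inj (S.scal_tr (hzK g.1 g.2)) with hz | ⟨hi, -⟩
    · refine LinearEquiv.ext fun w => Subtype.ext ?_
      rw [← map_mul, restK_apply]
      show ((z g : V ≃ₗ[ZMod 2] V) * (z g : V ≃ₗ[ZMod 2] V)) (w : V) = (w : V)
      rw [mul_app, sq_app, hz _ (kspan_inv (z g).2 w.2), zero_add]
    · exact absurd (hi w0 hw0 h0) hne
  have hinv : ∀ g : K, (φ (z g))⁻¹ = φ (z g) := fun g => inv_eq_of_mul_eq_one_right (hsq g)
  -- cocycle identity
  have hcoc : ∀ g h : K, φ (z (g * h)) = (φ h)⁻¹ * φ (z g) * φ h * φ (z h) := by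
    intro g h
    have e := hσmul g h
    rw [hσ, hσ, hσ, map_mul] at e
    calc φ (z (g * h)) = (φ g * φ h)⁻¹ * (φ g * φ h * φ (z (g * h))) := by group
      _ = (φ g * φ h)⁻¹ * (φ g * φ (z g) * (φ h * φ (z h))) := by rw [e]
      _ = _ := by group
  have hz1 : φ (z 1) = 1 := by
    have := hcoc 1 1
    rw [mul_one, map_one, inv_one, one_mul, mul_one] at this
    calc φ (z 1) = φ (z 1) * φ (z 1) := this
      _ = 1 := hsq 1
  have hzi : ∀ h : K, φ (z h⁻¹) = φ h * φ (z h) * (φ h)⁻¹ := by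
    intro h
    have e : (φ h)⁻¹ * φ (z h⁻¹) * φ h * φ (z h) = 1 := by
      rw [← hcoc, inv_mul_cancel, hz1]
    have e2 : (φ h)⁻¹ * φ (z h⁻¹) * φ h = φ (z h) := by
      rw [← hinv h]; exact eq_inv_of_mul_eq_one_left e
    rw [← e2]; group
  -- the `z`'s commute with one another
  have hzz : ∀ g h : K, Commute (φ (z g)) (φ (z h)) := by
    have c1 : ∀ g h : K, Commute ((φ h)⁻¹ * φ (z g) * φ h) (φ (z h)) := by
      intro g h
      set c := (φ h)⁻¹ * φ (z g) * φ h with hc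
      have cc : c⁻¹ = c := by rw [hc, mul_inv_rev, mul_inv_rev, inv_inv, hinv]; group
      show c * φ (z h) = φ (z h) * c
      calc c * φ (z h) = (c * φ (z h))⁻¹ := by rw [← hcoc, hinv]
        _ = _ := by rw [mul_inv_rev, cc, hinv]
    intro g h
    have := c1 g h⁻¹
    rw [hzi, map_inv, inv_inv] at this
    have e := this.eq
    show φ (z g) * φ (z h) = φ (z h) * φ (z g)
    calc φ (z g) * φ (z h)
        = (φ h)⁻¹ * ((φ h * φ (z g) * (φ h)⁻¹) * (φ h * φ (z h) * (φ h)⁻¹)) * φ h := by group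
      _ = (φ h)⁻¹ * ((φ h * φ (z h) * (φ h)⁻¹) * (φ h * φ (z g) * (φ h)⁻¹)) * φ h := by rw [e]
      _ = _ := by group
  have hconjeq : ∀ g h : K, (φ h)⁻¹ * φ (z g) * φ h = φ (z (g * h)) * φ (z h) := fun g h => by
    rw [hcoc, mul_assoc _ (φ (z h)) (φ (z h)), hsq, mul_one]
  -- the elements commuting with all `z`
  let N : Subgroup (V ≃ₗ[ZMod 2] V) :=
    (Subgroup.comap φ (Subgroup.centralizer (Set.range fun g => φ (z g)))).map K.subtype
  have hNz : ∀ n : K, (n : V ≃ₗ[ZMod 2] V) ∈ N → ∀ g, Commute (φ (z g)) (φ n) := by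
    rintro n ⟨m, hm, e⟩ g
    rw [Subtype.ext e] at hm
    exact Subgroup.mem_centralizer_iff.1 hm _ ⟨g, rfl⟩
  have hconjmem : ∀ k ∈ K, ∀ n ∈ N, k * n * k⁻¹ ∈ N := by
    rintro k hk _ ⟨m, hm, rfl⟩
    refine ⟨⟨k, hk⟩ * m * ⟨k, hk⟩⁻¹, Subgroup.mem_centralizer_iff.2 ?_, rfl⟩
    rintro _ ⟨g, rfl⟩
    have c : Commute ((φ ⟨k, hk⟩)⁻¹ * φ (z g) * φ ⟨k, hk⟩) (φ m) := by
      rw [hconjeq g ⟨k, hk⟩]
      exact Commute.mul_left (Subgroup.mem_centralizer_iff.1 hm _ ⟨_, rfl⟩)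
        (Subgroup.mem_centralizer_iff.1 hm _ ⟨_, rfl⟩)
    rw [map_mul, map_mul, map_inv]
    calc φ (z g) * (φ ⟨k, hk⟩ * φ m * (φ ⟨k, hk⟩)⁻¹)
        = φ ⟨k, hk⟩ * (((φ ⟨k, hk⟩)⁻¹ * φ (z g) * φ ⟨k, hk⟩) * φ m) * (φ ⟨k, hk⟩)⁻¹ := by group
      _ = φ ⟨k, hk⟩ * (φ m * ((φ ⟨k, hk⟩)⁻¹ * φ (z g) * φ ⟨k, hk⟩)) * (φ ⟨k, hk⟩)⁻¹ := by rw [c.eq]
      _ = _ := by group
  have hN : N = K := by
    refine eq_of_twist hK hb hbK (Subgroup.map_subtype_le _) (fun k hk => ?_) fun x hx => ?_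
    · rw [Subgroup.mem_normalizer_iff]
      refine fun n => ⟨fun hn => hconjmem k hk n hn, fun hn => ?_⟩
      have := hconjmem k⁻¹ (inv_mem hk) _ hn
      simpa [mul_assoc] using this
    · refine ⟨z ⟨x, hx⟩, Subgroup.mem_centralizer_iff.2 ?_, rfl⟩
      rintro _ ⟨g, rfl⟩
      exact hzz g _
  have hcen : ∀ g n : K, Commute (φ (z g)) (φ n) := fun g n => hNz n (hN.symm ▸ n.2) g
  -- so `b` centralises `K` on the slot
  have hfixσ : ∀ g : K, φ (σ g) = φ g := by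
    let ψ : K →* (kspan K R₀ ≃ₗ[ZMod 2] kspan K R₀) := MonoidHom.mk' (fun g => φ (σ g)) hσmul
    have hle : ⁅(⊤ : Subgroup K), (⊤ : Subgroup K)⁆ ≤ MonoidHom.eqLocus ψ φ := by
      refine Subgroup.commutator_le.2 fun g _ k _ => ?_
      show ψ ⁅g, k⁆ = φ ⁅g, k⁆
      rw [map_commutatorElement, map_commutatorElement]
      show ⁅φ (σ g), φ (σ k)⁆ = ⁅φ g, φ k⁆
      rw [hσ g, hσ k]
      have cg : ∀ n, Commute (φ (z g)) (φ n) := hcen g
      have ck : ∀ n, Commute (φ (z k)) (φ n) := hcen k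
      simp only [commutatorElement_def, mul_inv_rev, hinv]
      calc φ g * φ (z g) * (φ k * φ (z k)) * (φ (z g) * (φ g)⁻¹) * (φ (z k) * (φ k)⁻¹)
          = φ g * (φ (z g) * φ k) * (φ (z k) * φ (z g)) * (φ g)⁻¹ * (φ (z k) * (φ k)⁻¹) := by group
        _ = φ g * (φ k * φ (z g)) * (φ (z g) * φ (z k)) * (φ g)⁻¹ * (φ (z k) * (φ k)⁻¹) := by
          rw [(cg k).eq, (hzz k g).eq]
        _ = φ g * φ k * (φ (z g) * φ (z g)) * (φ (z k) * (φ g)⁻¹) * φ (z k) * (φ k)⁻¹ := by group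
        _ = φ g * φ k * (φ g)⁻¹ * (φ (z k) * φ (z k)) * (φ k)⁻¹ := by
          rw [hsq g, ((ck g).inv_right).eq]; group
        _ = _ := by rw [hsq k, mul_one]
    have hperf : Group.IsPerfect K := Subgroup.isPerfect_iff.mpr hK.perfect
    intro g
    have htop : g ∈ ⁅(⊤ : Subgroup K), (⊤ : Subgroup K)⁆ := hperf.mem_commutator
    exact hle htop
  obtain ⟨g, hg, r, hr, hne⟩ := S.nonzero
  refine hne (tr_eq_zero_of_fix ?_)
  refine fixed_of_twist hK hb hbK (kspan K R₀ : Set V) (fun g hg w hw => kspan_inv hg hw)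
    (fun y hy w hw => ?_) r (le_kspan hr) g hg
  have := congrArg (fun e : kspan K R₀ ≃ₗ[ZMod 2] kspan K R₀ => ((e ⟨w, hw⟩ : kspan K R₀) : V))
    (hfixσ ⟨y, hy⟩)
  simp only [hφ, restK_apply, σ] at this
  rw [this, sub_self]
  exact Fix.zero

/-- The counting contradiction. -/
theorem false_of_small [Finite V] (hK : IsQS K) (ha : a * a = 1) (h : Apart K 1 a)
    (hd : DiagFix K a) {B : Subgroup (V ≃ₗ[ZMod 2] V)}
    (hBcomm : ∀ b ∈ B, ∀ d ∈ B, b * d = d * b) (hB2 : ∀ b ∈ B, b * b = 1)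
    (hBK : ∀ b ∈ B, ∀ x ∈ K, b * x * b⁻¹ ∈ K) (hBne : ∀ b ∈ B, b ≠ 1 → ∃ x ∈ K, b * x ≠ x * b)
    (hfixa : ∀ b ∈ B, ∀ v, b (a v - v) = a v - v)
    (hfixB : ∀ b ∈ B, ∀ d ∈ B, ∀ v, b (d v - v) = d v - v)
    (hbot : B = ⊥ → Nat.card ↥(LinearMap.range (a.toLinearMap - LinearMap.id)) ≤ 2)
    (hbound : ∀ b ∈ B,
      Nat.card ↥(LinearMap.range (b.toLinearMap - LinearMap.id)) ≤ 2 * Nat.card B) : False := by
  obtain ⟨R₀, S, hR₀, hq⟩ := exists_slot hK ha h hd
  have hle : R₀ ≤ LinearMap.range (a.toLinearMap - LinearMap.id) := fun r hr => by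
    obtain ⟨v, rfl⟩ := hR₀ r hr; exact ⟨v, rfl⟩
  by_cases hB : B = ⊥
  · have h1 : Nat.card R₀ ≤ Nat.card ↥(LinearMap.range (a.toLinearMap - LinearMap.id)) :=
      Nat.card_mono (Set.toFinite _) hle
    have := hbot hB
    omega
  obtain ⟨⟨b₀, hb₀⟩, h1⟩ := Subgroup.ne_bot_iff_exists_ne_one.1 hB
  have hb₀1 : b₀ ≠ 1 := fun e => h1 (Subtype.ext e)
  have hbr : ∀ b ∈ B, ∀ r ∈ R₀, b r = r := fun b hb r hr => by
    obtain ⟨v, rfl⟩ := hR₀ r hr; exact hfixa b hb v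
  obtain ⟨x, hx, hinv, htx⟩ := S.exists_inverted hK (hBK b₀ hb₀) (hbr b₀ hb₀) (hB2 b₀ hb₀)
    (hBne b₀ hb₀ hb₀1)
  obtain ⟨r₀, hr₀, hr₀0⟩ : ∃ r ∈ R₀, r ≠ (0 : V) := by
    obtain ⟨g, _, r, hr, hne⟩ := S.nonzero
    exact ⟨r, hr, fun e => hne (by rw [e, map_zero])⟩
  -- `|B| ≤ |R₀|`
  let f : B → V := fun b =>
    (a * x⁻¹ * a⁻¹) (du b.1 x r₀) + x (du b.1 x r₀) + tr x (du b.1 x r₀)
  have hf : ∀ b : B, f b = S.cc b.1 x x r₀ := by
    intro b
    have hb := hBK b.1 b.2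
    have h1 := S.star hb (hbr b.1 b.2) hx hx (le_kspan hr₀)
    have e : x r₀ = (a * x⁻¹ * a⁻¹) r₀ := by rw [S.conj _ (inv_mem hx) r₀ hr₀, inv_inv]
    have e2 : du b.1 x (x r₀) = (a * x⁻¹ * a⁻¹) (du b.1 x r₀) := by
      rw [e, S.du_commute (hb x hx) hx (inv_mem hx)]
    rw [e2] at h1
    simp only [f]
    rw [h1, add_comm (tr x (du b.1 x r₀)), add_assoc, two_add, add_zero]
  have hfadd : ∀ b d : B, f (b * d) = f b + f d := by
    intro b d
    have e : ∀ c ∈ B, (c * x * c⁻¹) r₀ = c (x r₀) := fun c hc => by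
      rw [mul_app, mul_app, fix_inv (hbr c hc r₀ hr₀)]
    have e2 : du (b.1 * d.1) x r₀ = du b.1 x r₀ + du d.1 x r₀ := by
      rw [du_apply, du_apply, du_apply, e _ (mul_mem b.2 d.2), e _ b.2, e _ d.2, mul_app]
      have h := hfixB b.1 b.2 d.1 d.2 (x r₀)
      rw [two_sub, map_add] at h
      linear_combination (norm := (match_scalars <;> decide)) (1 : ZMod 2) • h
    simp only [f, Subgroup.coe_mul, e2, map_add]
    abel
  have hfinj : Function.Injective f := by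
    intro b d hbd
    have h0 : f (b * d) = 0 := by rw [hfadd, hbd, two_add]
    by_contra hne
    have hne1 : (b * d : B).1 ≠ 1 := fun e => hne (by
      have e' : b * d = 1 := Subtype.ext e
      have : d * d = 1 := Subtype.ext (hB2 d.1 d.2)
      rw [← mul_inv_eq_one, inv_eq_of_mul_eq_one_right this]
      exact e')
    set c := (b * d : B)
    have hc0 : ∀ w ∈ kspan K R₀, S.cc c.1 x x w = 0 := by
      rcases S.scal_zero_or_inj (S.cc_mem (hBK c.1 c.2 x hx) hx hx) with hz | ⟨hi, -⟩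
      · exact hz
      · exact absurd (hi r₀ (le_kspan hr₀) (by rw [← hf]; exact h0)) hr₀0
    refine S.du_eq_zero hK (hBK c.1 c.2) (hbr c.1 c.2) (hBK b₀ hb₀) (hbr b₀ hb₀)
      (hBcomm c.1 c.2 b₀ hb₀) (hfixB c.1 c.2 b₀ hb₀) hx hinv htx (fun w hw => ?_)
      (hBne c.1 c.2 hne1)
    rw [S.du_sq (hBK c.1 c.2) (hbr c.1 c.2) hx hw]
    exact hc0 w hw
  have hBR : Nat.card B ≤ Nat.card R₀ :=
    Nat.card_le_card_of_injective (fun b => (⟨f b, by
      rw [hf]; exact (S.scal_mem (S.cc_mem (hBK b.1 b.2 x hx) hx hx)).1 r₀ hr₀⟩ : R₀))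
      fun b d e => hfinj (congrArg Subtype.val e)
  -- the image of the slot under `b₀ - 1`
  have hb₀W : ∀ w ∈ kspan K R₀, b₀ w ∈ kspan K R₀ := fun w hw =>
    kspan_stable (hBK b₀ hb₀) (hbr b₀ hb₀) hw
  set T : Submodule (ZMod 2) V :=
    (kspan K R₀).map (b₀.toLinearMap - LinearMap.id) with hT
  have hTmem : ∀ w ∈ kspan K R₀, b₀ w + w ∈ T := fun w hw => ⟨w, hw, by
    show b₀ w - w = b₀ w + w
    rw [two_sub]⟩
  have hb₀g : ∀ g ∈ K, ∀ r ∈ R₀, b₀ (g r) = (b₀ * g * b₀⁻¹) r := fun g _ r hr => by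
    rw [mul_app, mul_app, fix_inv (hbr b₀ hb₀ r hr)]
  have hTR : R₀ ≤ T := by
    intro r hr
    rcases S.scal_zero_or_inj (S.scal_tr hx) with hz | ⟨-, hsurj⟩
    · exact absurd (htx r₀ (le_kspan hr₀) (hz _ (le_kspan hr₀))) hr₀0
    obtain ⟨r', hr', rfl⟩ := hsurj r hr
    have := hTmem (x r') (mem_kspan hx hr')
    rwa [hb₀g x hx r' hr', hinv r' (le_kspan hr'), add_comm, ← tr_apply] at this
  have hTscal : ∀ l ∈ S.scal, ∀ m ∈ T, l m ∈ T := by
    intro l hl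
    have hlb : ∀ w ∈ kspan K R₀, l (b₀ w) = b₀ (l w) := by
      induction hl using Algebra.adjoin_induction with
      | mem t ht =>
        obtain ⟨g, hg, rfl⟩ := ht
        intro w hw
        exact eqOn_kspan (P := (tr g).comp b₀.toLinearMap) (Q := b₀.toLinearMap.comp (tr g))
          (fun k hk r hr => by
            show tr g (b₀ (k r)) = b₀ (tr g (k r))
            rw [hb₀g k hk r hr, S.tr_central hg (hBK b₀ hb₀ k hk) (le_kspan hr),
              S.tr_central hg hk (le_kspan hr), hb₀g k hk _ (S.tmem g hg r hr)]) w hw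
      | algebraMap c => intro w _; simp only [Module.algebraMap_end_apply, map_smul]
      | add u v _ _ hu hv =>
        intro w hw; simp only [LinearMap.add_apply, map_add, hu w hw, hv w hw]
      | mul u v _ hvm hu hv =>
        intro w hw
        simp only [Module.End.mul_apply, hv w hw, hu _ ((S.scal_mem hvm).2.1 w hw)]
    rintro _ ⟨w, hw, rfl⟩
    refine ⟨l w, (S.scal_mem hl).2.1 w hw, ?_⟩
    show b₀ (l w) - l w = l (b₀ w - w)
    rw [map_sub, hlb w hw]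
  have hcard : Nat.card T ≤ 2 * Nat.card B :=
    le_trans (Nat.card_mono (Set.toFinite _) (by
      rintro _ ⟨w, _, rfl⟩; exact ⟨w, rfl⟩)) (hbound b₀ hb₀)
  by_cases hTle : T ≤ R₀
  · -- then `b₀` centralises or inverts each element on the slot
    have hbK := hBne b₀ hb₀ hb₀1
    have hb := hBK b₀ hb₀
    have hcases : ∀ y ∈ K, (∀ w ∈ kspan K R₀, (b₀ * y * b₀⁻¹) w = y w) ∨
        ∀ w ∈ kspan K R₀, (b₀ * y * b₀⁻¹) w = y⁻¹ w := by
      intro y hy
      obtain ⟨l, hl, hlr⟩ := S.exists_scal hr₀ hr₀0 (hTle (hTmem (y r₀) (mem_kspan hy hr₀)))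
      have hduS : ∀ m ∈ S.scal, ∀ w ∈ kspan K R₀, du b₀ y (m w) = m (du b₀ y w) := fun m hm w hw => by
        rw [du_apply, du_apply, map_add, (S.scal_mem hm).2.2 _ (hb y hy) w hw,
          (S.scal_mem hm).2.2 _ hy w hw]
      have hdl : ∀ w ∈ kspan K R₀, du b₀ y w = l w := by
        refine S.ext (fun g hg v => S.du_commute (hb y hy) hy hg v) (S.scal_commute hl) fun r hr => ?_
        obtain ⟨m, hm, rfl⟩ := S.exists_scal hr₀ hr₀0 hr
        rw [hduS m hm _ (le_kspan hr₀), du_apply, ← hb₀g y hy r₀ hr₀, ← hlr,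
          S.scal_comm hm hl _ (le_kspan hr₀)]
      have hYK := hb y hy
      have e : ∀ w ∈ kspan K R₀, (b₀ * y * b₀⁻¹) w = y w + l w := fun w hw => by
        rw [← hdl w hw, du_apply]
        calc (b₀ * y * b₀⁻¹) w = (b₀ * y * b₀⁻¹) w + (y w + y w) := by rw [two_add, add_zero]
          _ = _ := by abel
      have hll : ∀ w ∈ kspan K R₀, (l + tr y) (l w) = 0 := by
        intro w hw
        have hlw := (S.scal_mem hl).2.1 w hw
        have h1 : (b₀ * y * b₀⁻¹) ((b₀ * y * b₀⁻¹) w) = tr y ((b₀ * y * b₀⁻¹) w) + w := by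
          rw [sq_app, S.tr_conj hb (hbr b₀ hb₀) hy (kspan_inv hYK hw)]
        rw [e w hw, map_add, e _ (kspan_inv hy hw), e _ hlw, map_add (tr y), sq_app y w,
          (S.scal_mem hl).2.2 y hy w hw] at h1
        rw [LinearMap.add_apply]
        linear_combination (norm := (match_scalars <;> decide)) (1 : ZMod 2) • h1
      rcases S.scal_zero_or_inj hl with hz | ⟨hi, -⟩
      · left
        intro w hw
        rw [e w hw, hz w hw, add_zero]
      · right
        intro w hw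
        rw [e w hw, inv_app_eq_tr]
        rcases S.scal_zero_or_inj (add_mem hl (S.scal_tr hy)) with hz | ⟨hi2, -⟩
        · have := hz w hw
          rw [LinearMap.add_apply] at this
          linear_combination (norm := (match_scalars <;> decide)) (1 : ZMod 2) • this
        · exfalso
          exact hr₀0 (hi r₀ (le_kspan hr₀)
            (hi2 _ ((S.scal_mem hl).2.1 _ (le_kspan hr₀)) (hll r₀ (le_kspan hr₀))))
    let ψ : K →* (kspan K R₀ ≃ₗ[ZMod 2] kspan K R₀) := MonoidHom.mk'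
      (fun g => restK K R₀ ⟨b₀ * g.1 * b₀⁻¹, hb g.1 g.2⟩) (fun g k => by
        rw [← map_mul]; congr 1; exact Subtype.ext (by simp))
    have hperf : Group.IsPerfect K := Subgroup.isPerfect_iff.mpr hK.perfect
    have heq : ψ = restK K R₀ := eq_of_inverting hperf.commutator_eq_top _ _ fun y => by
      rcases hcases y.1 y.2 with h1 | h1
      · exact Or.inl (LinearEquiv.ext fun w => Subtype.ext (h1 w w.2))
      · right
        rw [← map_inv]
        exact LinearEquiv.ext fun w => Subtype.ext (h1 w w.2)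
    obtain ⟨g, hg, r, hr, hne⟩ := S.nonzero
    refine hne (tr_eq_zero_of_fix ?_)
    refine fixed_of_twist hK hb hbK (kspan K R₀ : Set V) (fun g hg w hw => kspan_inv hg hw)
      (fun y hy w hw => ?_) r (le_kspan hr) g hg
    have := congrArg (fun e : K →* (kspan K R₀ ≃ₗ[ZMod 2] kspan K R₀) =>
      ((e ⟨y, hy⟩ ⟨w, hw⟩ : kspan K R₀) : V)) heq
    simp only [ψ, MonoidHom.mk'_apply, restK_apply] at this
    rw [this, sub_self]
    exact Fix.zero
  · obtain ⟨m, hm, hmR⟩ := SetLike.not_le_iff_exists.1 hTle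
    have hex : ∀ r : R₀, ∃ l, l ∈ S.scal ∧ l r₀ = r := fun r => S.exists_scal hr₀ hr₀0 r.2
    choose L hL hLr using hex
    have hmW : m ∈ kspan K R₀ := by
      obtain ⟨w, hw, rfl⟩ := hm
      exact sub_mem (hb₀W w hw) hw
    let Φ : R₀ × R₀ → T := fun q => ⟨L q.1 m + q.2, add_mem (hTscal _ (hL q.1) m hm) (hTR q.2.2)⟩
    have hΦ : Function.Injective Φ := by
      rintro ⟨r, s⟩ ⟨r', s'⟩ e
      have e' : L r m + (s : V) = L r' m + (s' : V) := congrArg Subtype.val e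
      have hl : L r - L r' ∈ S.scal := sub_mem (hL r) (hL r')
      have hlm : (L r - L r') m ∈ R₀ := by
        have : (L r - L r') m = (s' : V) - s := by
          rw [LinearMap.sub_apply, sub_eq_sub_iff_add_eq_add, e', add_comm]
        rw [this]; exact sub_mem s'.2 s.2
      have hz : ∀ w ∈ kspan K R₀, (L r - L r') w = 0 := by
        rcases S.scal_zero_or_inj hl with hz | ⟨hi, hsurj⟩
        · exact hz
        · exfalso
          obtain ⟨r'', hr'', e''⟩ := hsurj _ hlm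
          have := hi (r'' - m) (sub_mem (le_kspan hr'') hmW) (by rw [map_sub, e'', sub_self])
          exact hmR (sub_eq_zero.1 this ▸ hr'')
      have hrr : r = r' := by
        have := hz r₀ (le_kspan hr₀)
        rw [LinearMap.sub_apply, hLr, hLr, sub_eq_zero] at this
        exact Subtype.ext this
      subst hrr
      exact Prod.ext rfl (Subtype.ext (add_left_cancel e'))
    have h2 := Nat.card_le_card_of_injective Φ hΦ
    rw [Nat.card_prod] at h2
    have h3 : 4 * Nat.card R₀ ≤ Nat.card R₀ * Nat.card R₀ := Nat.mul_le_mul_right _ hq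
    omega

end Cfsg.Agent.Lib.OffenderComp
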