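import Cfsg.Agent.Lib.OffenderComp.Replacement
import Cfsg.Agent.Lib.OffenderComp.Odd
import Cfsg.Agent.Lib.OffenderComp.Small
import Cfsg.Agent.Lib.OffenderComp.Facts

/-!
# A best offender normalises every component

Owner: helper54. `le_normalizer`: if the elementary abelian `p`-group `A ≤ GL(V)` maximises
`|B| |C_V(B)|` among its subgroups and each conjugate of the quasisimple group `K` under `A`
equals `K` or commutes with it, then `A` normalises `K`.
-/

namespace Cfsg.Agent.Lib.OffenderComp

universe v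

attribute [local instance] finite_equiv

variable {p : ℕ} [Fact p.Prime]

/-- `a K a⁻¹ ⊆ K`. -/
def NK {R : Type*} [CommRing R] {V : Type*} [AddCommGroup V] [Module R V]
    (K : Subgroup (V ≃ₗ[R] V)) (a : V ≃ₗ[R] V) : Prop := ∀ x ∈ K, a * x * a⁻¹ ∈ K

section

variable {R : Type*} [CommRing R] {V : Type*} [AddCommGroup V] [Module R V]
  {K : Subgroup (V ≃ₗ[R] V)} {A : Subgroup (V ≃ₗ[R] V)} {a c : V ≃ₗ[R] V}

theorem NK.one : NK K (1 : V ≃ₗ[R] V) := fun x hx => by simpa using hx

theorem NK.mul (ha : NK K a) (hc : NK K c) : NK K (a * c) := fun x hx => by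
  have := ha _ (hc x hx)
  convert this using 1; group

theorem NK.pow (ha : NK K a) : ∀ n : ℕ, NK K (a ^ n)
  | 0 => by rw [pow_zero]; exact NK.one
  | n + 1 => by rw [pow_succ]; exact (NK.pow ha n).mul ha

theorem NK.inv (ha : NK K a) {n : ℕ} (hn : 0 < n) (h : a ^ n = 1) : NK K a⁻¹ := by
  have : a⁻¹ = a ^ (n - 1) := inv_eq_of_mul_eq_one_right (by
    rw [← pow_succ', show n - 1 + 1 = n by omega, h])
  rw [this]; exact ha.pow _

theorem apart_of_not_NK (hconj : ∀ a ∈ A, NK K a ∨ Apart K 1 a) {i j : V ≃ₗ[R] V} (hi : i ∈ A)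
    (hj : j ∈ A) (h : ¬ NK K (i⁻¹ * j)) : Apart K i j := by
  intro x hx y hy
  have := ((hconj _ (mul_mem (inv_mem hi) hj)).resolve_left h).one_commute hx hy
  calc i * x * i⁻¹ * (j * y * j⁻¹) = i * (x * ((i⁻¹ * j) * y * (i⁻¹ * j)⁻¹)) * i⁻¹ := by group
    _ = i * (((i⁻¹ * j) * y * (i⁻¹ * j)⁻¹) * x) * i⁻¹ := by rw [this.eq]
    _ = _ := by group

end

theorem card_range_mul_card_ker {V : Type*} [AddCommGroup V] [Module (ZMod p) V] [Finite V]
    (f : V →ₗ[ZMod p] V) :
    Nat.card ↥(LinearMap.range f) * Nat.card ↥(LinearMap.ker f) = Nat.card V := by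
  rw [Module.natCard_eq_pow_finrank (K := ZMod p) (V := ↥(LinearMap.range f)),
    Module.natCard_eq_pow_finrank (K := ZMod p) (V := ↥(LinearMap.ker f)),
    Module.natCard_eq_pow_finrank (K := ZMod p) (V := V), ← pow_add,
    LinearMap.finrank_range_add_finrank_ker]

theorem card_range_le {V : Type*} [AddCommGroup V] [Module (ZMod p) V] [Finite V]
    {B : Subgroup (V ≃ₗ[ZMod p] V)} {b : V ≃ₗ[ZMod p] V} (hb : b ∈ B)
    (h : Nat.card V ≤ Nat.card B * Nat.card (fixS B)) :
    Nat.card ↥(LinearMap.range (b.toLinearMap - LinearMap.id)) ≤ Nat.card B := by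
  have hle : fixS B ≤ LinearMap.ker (b.toLinearMap - LinearMap.id) := fun v hv => by
    show b v - v = 0
    rw [hv b hb, sub_self]
  have h1 := card_range_mul_card_ker (b.toLinearMap - LinearMap.id)
  have h2 := Nat.card_mono (Set.toFinite _) hle
  have h3 : Nat.card ↥(LinearMap.range (b.toLinearMap - LinearMap.id)) * Nat.card (fixS B) ≤
      Nat.card B * Nat.card (fixS B) :=
    le_trans (le_trans (Nat.mul_le_mul_left _ h2) h1.le) h
  exact Nat.le_of_mul_le_mul_right h3 Nat.card_pos

/-- The case `C_A(K) = 1`. -/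
theorem nk_of_faithful {V : Type v} [AddCommGroup V] [Module (ZMod p) V] [Finite V]
    {A K : Subgroup (V ≃ₗ[ZMod p] V)} (hK : IsQS K) (hcomm : ∀ a ∈ A, ∀ b ∈ A, a * b = b * a)
    (hexp : ∀ a ∈ A, a ^ p = 1) (hmax : IsMax A) (hconj : ∀ a ∈ A, NK K a ∨ Apart K 1 a)
    (hC : ∀ b ∈ A, b ≠ 1 → ∃ x ∈ K, b * x ≠ x * b) {a : V ≃ₗ[ZMod p] V} (ha : a ∈ A) : NK K a := by
  by_contra hna
  have hinv : ∀ c ∈ A, NK K c → NK K c⁻¹ := fun c hc h =>
    h.inv (Fact.out : p.Prime).pos (hexp c hc)
  have hne : A ≠ ⊥ := fun h => hna (by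
    rw [h, Subgroup.mem_bot] at ha; rw [ha]; exact NK.one)
  obtain ⟨B, hBA, hB, hfix, hcard⟩ := exists_replacement hne hcomm hexp hmax
  obtain ⟨⟨b, hb⟩, hb1⟩ := Subgroup.ne_bot_iff_exists_ne_one.1 hB
  have hb1' : b ≠ 1 := fun e => hb1 (Subtype.ext e)
  rcases eq_or_ne p 2 with rfl | hp2
  · have h22 : ∀ c ∈ A, c * c = 1 := fun c hc => by rw [← pow_two]; exact hexp c hc
    have hiv : ∀ c ∈ A, c⁻¹ = c := fun c hc => inv_eq_of_mul_eq_one_right (h22 c hc)
    have hap : ∀ c ∈ A, ∀ d ∈ A, ¬ NK K (c * d) → Apart K c d := fun c hc d hd h =>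
      apart_of_not_NK hconj hc hd (by rwa [hiv c hc])
    have hap1 : ∀ c ∈ A, ¬ NK K c → Apart K 1 c := fun c hc h => (hconj c hc).resolve_left h
    by_cases hB0 : ∃ b₁ ∈ B, b₁ ≠ 1 ∧ NK K b₁
    · obtain ⟨b₁, hb₁, hb₁1, hb₁N⟩ := hB0
      obtain ⟨x₁, hx₁⟩ := hC b₁ (hBA hb₁) hb₁1
      have hpair : ∀ c ∈ A, ∀ d ∈ A, ¬ NK K c → ¬ NK K d → NK K (c * d) := by
        intro c hc d hd hcn hdn
        by_contra hcd
        exact false_of_three hK hcomm (hBA hb₁) hb₁N ⟨x₁, hx₁⟩
          (fun e he v => hfix e he b₁ hb₁ v) hc hd (hap1 c hc hcn) (hap1 d hd hdn) (hap c hc d hd hcd)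
      obtain ⟨a', ha', ha'n, hsplit⟩ : ∃ a' ∈ A, ¬ NK K a' ∧ ((∀ d ∈ B, NK K d) ∨ a' ∈ B) := by
        by_cases hall : ∀ d ∈ B, NK K d
        · exact ⟨a, ha, hna, Or.inl hall⟩
        · push Not at hall
          obtain ⟨d, hd, hdn⟩ := hall
          exact ⟨d, hBA hd, hdn, Or.inr hd⟩
      let B₀ : Subgroup (V ≃ₗ[ZMod 2] V) :=
        { carrier := {d | d ∈ B ∧ NK K d}
          mul_mem' := fun hc hd => ⟨mul_mem hc.1 hd.1, hc.2.mul hd.2⟩
          one_mem' := ⟨one_mem B, NK.one⟩
          inv_mem' := fun {d} hd => ⟨inv_mem hd.1, hinv d (hBA hd.1) hd.2⟩ }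
      have hB₀ne : B₀ ≠ ⊥ := fun e => hb₁1 (by
        have h : b₁ ∈ B₀ := ⟨hb₁, hb₁N⟩
        rwa [e, Subgroup.mem_bot] at h)
      have hle2 : Nat.card B ≤ 2 * Nat.card B₀ := by
        classical
        let f : B → B₀ × Bool := fun d =>
          if h : NK K d.1 then (⟨d.1, d.2, h⟩, true)
          else if h' : a' ∈ B then
            (⟨a' * d.1, mul_mem h' d.2, hpair a' ha' d.1 (hBA d.2) ha'n h⟩, false)
          else (1, false)
        have hf : Function.Injective f := by
          intro c d e
          have hs : ∀ z : B, ¬ NK K z.1 → a' ∈ B := fun z hz =>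
            hsplit.resolve_left fun h => hz (h z.1 z.2)
          by_cases h1 : NK K c.1 <;> by_cases h2 : NK K d.1
          · simp [f, h1, h2] at e
            exact e
          · simp [f, h1, h2, hs d h2] at e
          · simp [f, h1, h2, hs c h1] at e
          · simp [f, h1, h2, hs c h1] at e
            exact e
        have := Nat.card_le_card_of_injective f hf
        rw [Nat.card_prod, Nat.card_eq_fintype_card (α := Bool), Fintype.card_bool] at this
        omega
      refine false_of_small hK (h22 a' ha') (hap1 a' ha' ha'n)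
        (diagFix_of_normalizing hK (h22 a' ha') (hap1 a' ha' ha'n) hb₁N ⟨x₁, hx₁⟩
          (hcomm a' ha' b₁ (hBA hb₁)) (fun v => hfix a' ha' b₁ hb₁ v))
        (B := B₀) (fun c hc d hd => hcomm c (hBA hc.1) d (hBA hd.1))
        (fun c hc => h22 c (hBA hc.1)) (fun c hc => hc.2)
        (fun c hc hc1 => hC c (hBA hc.1) hc1) (fun c hc v => hfix a' ha' c hc.1 v)
        (fun c hc d hd v => hfix d (hBA hd.1) c hc.1 v) (fun e => absurd e hB₀ne) ?_
      intro c hc
      exact le_trans (card_range_le hc.1 hcard) hle2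
    · push Not at hB0
      have hbn : ¬ NK K b := hB0 b hb hb1'
      have hbA := hBA hb
      by_cases hc3 : ∃ c ∈ B, c ≠ 1 ∧ c ≠ b
      · obtain ⟨c, hc, hc1, hcb⟩ := hc3
        have hcA := hBA hc
        have hcn : ¬ NK K c := hB0 c hc hc1
        have hcbn : ¬ NK K (c * b) := hB0 _ (mul_mem hc hb) fun e => hcb (by
          have e' := eq_inv_of_mul_eq_one_left e
          rwa [hiv b hbA] at e')
        have hbcn : ¬ NK K (b * c) := by rwa [hcomm b hbA c hcA]
        have dfb : DiagFix K b := diagFix_of_moving hK (h22 b hbA) (hap1 b hbA hbn)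
          (hcomm b hbA c hcA) (fun v => hfix b hbA c hc v) (hap1 c hcA hcn) (hap b hbA c hcA hbcn)
          (hap1 _ (mul_mem hcA hbA) hcbn) (hap b hbA _ (mul_mem hcA hbA) (by
            rwa [hcomm c hcA b hbA, ← mul_assoc, h22 b hbA, one_mul]))
        have dfc : DiagFix K c := diagFix_of_moving hK (h22 c hcA) (hap1 c hcA hcn)
          (hcomm c hcA b hbA) (fun v => hfix c hcA b hb v) (hap1 b hbA hbn) (hap c hcA b hbA hcbn)
          (hap1 _ (mul_mem hbA hcA) hbcn) (hap c hcA _ (mul_mem hbA hcA) (by
            rwa [hcomm b hbA c hcA, ← mul_assoc, h22 c hcA, one_mul]))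
        exact false_of_third hK (hcomm b hbA c hcA) dfb dfc (fun v => hfix b hbA c hc v)
          (hap1 b hbA hbn) (hap1 c hcA hcn) (hap b hbA c hcA hbcn)
      · push Not at hc3
        have hBle : Nat.card B ≤ 2 := by
          classical
          let f : B → Bool := fun d => decide (d.1 = 1)
          have hf : Function.Injective f := by
            intro c d e
            by_cases h1 : c.1 = 1 <;> by_cases h2 : d.1 = 1
            · exact Subtype.ext (h1.trans h2.symm)
            · simp only [f, decide_eq_decide] at e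
              exact absurd (e.1 h1) h2
            · simp only [f, decide_eq_decide] at e
              exact absurd (e.2 h2) h1
            · exact Subtype.ext ((hc3 c.1 c.2 h1).trans (hc3 d.1 d.2 h2).symm)
          have := Nat.card_le_card_of_injective f hf
          rwa [Nat.card_eq_fintype_card (α := Bool), Fintype.card_bool] at this
        set T := LinearMap.range (b.toLinearMap - LinearMap.id) with hT
        have hT2 : Nat.card T ≤ 2 := (card_range_le hb hcard).trans hBle
        have hd : DiagFix K b := by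
          intro x hx v
          by_cases hz : b v - v = 0
          · rw [hz, map_zero]
          · by_contra hne
            have hsub : ({0, b v - v, diag b x (b v - v)} : Set V) ⊆ (T : Set V) := by
              rintro y (rfl | rfl | rfl)
              · exact zero_mem T
              · exact ⟨v, rfl⟩
              · exact ⟨diag b x v, (diag_range (h22 b hbA) (hap1 b hbA hbn) hx v).symm⟩
            have hc : ({0, b v - v, diag b x (b v - v)} : Set V).ncard = 3 := by
              have m1 : b v - v ∉ ({diag b x (b v - v)} : Set V) := by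
                rw [Set.mem_singleton_iff]; exact fun e => hne e.symm
              have m2 : (0 : V) ∉ ({b v - v, diag b x (b v - v)} : Set V) := by
                rw [Set.mem_insert_iff, Set.mem_singleton_iff]
                rintro (e | e)
                · exact hz e.symm
                · exact hz ((map_eq_zero_iff _ (diag b x).injective).1 e.symm)
              rw [Set.ncard_insert_of_notMem m2, Set.ncard_insert_of_notMem m1, Set.ncard_singleton]
            have := Set.ncard_le_ncard hsub (Set.toFinite _)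
            rw [hc, ← Nat.card_coe_set_eq] at this
            exact absurd (this.trans hT2) (by omega)
        refine false_of_small hK (h22 b hbA) (hap1 b hbA hbn) hd (B := ⊥)
          (fun c hc d hd => by rw [Subgroup.mem_bot] at hc hd; rw [hc, hd])
          (fun c hc => by rw [Subgroup.mem_bot] at hc; rw [hc, one_mul])
          (fun c hc x hx => by rw [Subgroup.mem_bot] at hc; simpa [hc] using hx)
          (fun c hc hc1 => by rw [Subgroup.mem_bot] at hc; exact absurd hc hc1)
          (fun c hc v => by rw [Subgroup.mem_bot] at hc; rw [hc]; rfl)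
          (fun c hc d hd v => by rw [Subgroup.mem_bot] at hc; rw [hc]; rfl) (fun _ => hT2) ?_
        intro c hc
        rw [Subgroup.mem_bot] at hc
        subst hc
        have : LinearMap.range ((1 : V ≃ₗ[ZMod 2] V).toLinearMap - LinearMap.id) = ⊥ :=
          LinearMap.range_eq_bot.2 (sub_self _)
        rw [this, Subgroup.card_bot, mul_one, Nat.card_eq_one_iff_unique.2 ⟨inferInstance, ⟨0⟩⟩]
        omega
  · have hp : p.Prime := Fact.out
    have hodd : p % 2 = 1 := (hp.eq_two_or_odd).resolve_left hp2
    have h2u : IsUnit (2 : ZMod p) := by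
      rw [isUnit_iff_ne_zero, show (2 : ZMod p) = ((2 : ℕ) : ZMod p) from by norm_num, Ne,
        ZMod.natCast_eq_zero_iff, Nat.prime_dvd_prime_iff_eq hp Nat.prime_two]
      exact hp2
    by_cases hall : ∀ d ∈ B, NK K d
    · have ha2 : ¬ NK K (a * a) := fun h => hna (by
        have h3 := h.pow ((p + 1) / 2)
        have e : (a * a) ^ ((p + 1) / 2) = a := by
          rw [← pow_two, ← pow_mul, show 2 * ((p + 1) / 2) = p + 1 by omega, pow_succ, hexp a ha,
            one_mul]
        rwa [e] at h3)
      refine false_of_three hK hcomm (hBA hb) (hall b hb) (hC b (hBA hb) hb1')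
        (fun e he v => hfix e he b hb v) ha (mul_mem ha ha) ((hconj a ha).resolve_left hna)
        ((hconj _ (mul_mem ha ha)).resolve_left ha2)
        (apart_of_not_NK hconj ha (mul_mem ha ha) (by rwa [inv_mul_cancel_left]))
    · push Not at hall
      obtain ⟨d, hd, hdn⟩ := hall
      have hdA := hBA hd
      have hdi : ¬ NK K d⁻¹ := fun h => hdn (by
        have := hinv d⁻¹ (inv_mem hdA) h
        rwa [inv_inv] at this)
      exact false_of_quadratic_moving hK h2u (fun v => hfix d hdA d hd v)
        ((hconj d hdA).resolve_left hdn) ((hconj _ (inv_mem hdA)).resolve_left hdi)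

/-- A best offender normalises `K`. -/
theorem le_normalizer (n : ℕ) : ∀ {V : Type v} [AddCommGroup V] [Module (ZMod p) V] [Finite V],
    Nat.card V ≤ n → ∀ {A K : Subgroup (V ≃ₗ[ZMod p] V)}, IsQS K →
      (∀ a ∈ A, ∀ b ∈ A, a * b = b * a) → (∀ a ∈ A, a ^ p = 1) → IsMax A →
      (∀ a ∈ A, NK K a ∨ Apart K 1 a) → ∀ a ∈ A, NK K a := by
  induction n with
  | zero =>
    intro V _ _ _ hn
    exact absurd hn (Nat.not_le.2 Nat.card_pos)
  | succ n ih =>
    intro V _ _ _ hn A K hK hcomm hexp hmax hconj a ha
    classical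
    by_cases hC : ∀ b ∈ A, b ≠ 1 → ∃ x ∈ K, b * x ≠ x * b
    · exact nk_of_faithful hK hcomm hexp hmax hconj hC ha
    by_contra hna
    push Not at hC
    obtain ⟨c₀, hc₀, hc₀1, hc₀K⟩ := hC
    -- `X = C_V(C_A(K))`
    set C : Subgroup (V ≃ₗ[ZMod p] V) := A ⊓ Subgroup.centralizer (K : Set (V ≃ₗ[ZMod p] V)) with hCdef
    set X := fixS C with hX
    have hCK : ∀ c ∈ C, ∀ g ∈ K, g * c = c * g := fun c hc g hg =>
      Subgroup.mem_centralizer_iff.1 hc.2 g hg
    have hAX : ∀ g ∈ A, ∀ w ∈ X, g w ∈ X := fun g hg w hw c hc => by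
      rw [← mul_app, hcomm c hc.1 g hg, mul_app, hw c hc]
    have hKX : ∀ g ∈ K, ∀ w ∈ X, g w ∈ X := fun g hg w hw c hc => by
      rw [← mul_app, ← hCK c hc g hg, mul_app, hw c hc]
    let rest : ∀ (H : Subgroup (V ≃ₗ[ZMod p] V)), (∀ g ∈ H, ∀ w ∈ X, g w ∈ X) →
        H →* (X ≃ₗ[ZMod p] X) := fun H hH =>
      { toFun := fun g =>
          { toFun := fun w => ⟨g.1 w, hH g.1 g.2 w w.2⟩
            invFun := fun w => ⟨g.1⁻¹ w, hH _ (inv_mem g.2) w w.2⟩
            map_add' := fun u w => Subtype.ext (map_add g.1 (u : V) (w : V))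
            map_smul' := fun c w => Subtype.ext (map_smul g.1 c (w : V))
            left_inv := fun w => Subtype.ext (inv_app_app g.1 (w : V))
            right_inv := fun w => Subtype.ext (app_inv_app g.1 (w : V)) }
        map_one' := LinearEquiv.ext fun w => Subtype.ext rfl
        map_mul' := fun g k => LinearEquiv.ext fun w => Subtype.ext rfl }
    set rA := rest A hAX with hrA
    set rK := rest K hKX with hrK
    have hXlt : Nat.card X ≤ n := by
      have hne : X ≠ ⊤ := fun h => hc₀1 (LinearEquiv.ext fun v =>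
        (h ▸ Submodule.mem_top : v ∈ X) c₀ ⟨hc₀, Subgroup.mem_centralizer_iff.2 fun g hg => (hc₀K g hg).symm⟩)
      have h1 : Nat.card X < Nat.card (⊤ : Submodule (ZMod p) V) := by
        rw [← SetLike.coe_sort_coe, ← SetLike.coe_sort_coe, Nat.card_coe_set_eq, Nat.card_coe_set_eq]
        exact Set.ncard_lt_ncard (SetLike.coe_ssubset_coe.2 (lt_top_iff_ne_top.2 hne)) (Set.toFinite _)
      have h2 : Nat.card (⊤ : Submodule (ZMod p) V) = Nat.card V :=
        Nat.card_congr (Equiv.Set.univ V)
      omega
    -- `K` acts nontrivially on `X`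
    have hnt : ∃ g : K, rK g ≠ 1 := by
      by_contra hall
      push Not at hall
      have hXK : ∀ w ∈ X, Fix K w := fun w hw g hg => by
        have := congrArg (fun e : X ≃ₗ[ZMod p] X => ((e ⟨w, hw⟩ : X) : V)) (hall ⟨g, hg⟩)
        exact this
      refine hK.ne_bot (eq_bot_iff.2 fun g hg => Subgroup.mem_bot.2 (LinearEquiv.ext fun v => ?_))
      show g v = v
      by_contra hgv
      have hlist : ∀ l : List (V ≃ₗ[ZMod p] V), (∀ c ∈ l, c ∈ C) →
          ∃ w, ¬ Fix K w ∧ ∀ c ∈ l, Fix K (c w - w) := by
        intro l hl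
        induction l with
        | nil => exact ⟨v, fun h => hgv (h g hg), by simp⟩
        | cons c l ih =>
          obtain ⟨w, hwf, hwl⟩ := ih fun d hd => hl d (List.mem_cons_of_mem _ hd)
          have hcC := hl c (by simp)
          set N : Module.End (ZMod p) V := (c : V →ₗ[ZMod p] V) - 1 with hN
          have hNp : N ^ p = 0 := Aux.sub_one_pow (hexp c hcC.1)
          have hex : ∃ k, Fix K ((N ^ k) w) := ⟨p, by rw [hNp]; exact Fix.zero⟩
          have hk : Nat.find hex ≠ 0 := fun h0 => hwf (by
            have := Nat.find_spec hex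
            rwa [h0, pow_zero] at this)
          obtain ⟨k, hk⟩ : ∃ k, Nat.find hex = k + 1 := ⟨Nat.find hex - 1, by omega⟩
          refine ⟨(N ^ k) w, Nat.find_min hex (by omega), ?_⟩
          intro d hd
          rcases List.mem_cons.1 hd with rfl | hd
          · show Fix K (N ((N ^ k) w))
            rw [← Module.End.mul_apply, ← pow_succ', ← hk]
            exact Nat.find_spec hex
          · have hdC := hl d (List.mem_cons_of_mem _ hd)
            have hcd : ∀ u, c (d u) = d (c u) := fun u => by
              rw [← mul_app, hcomm c hcC.1 d hdC.1, mul_app]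
            have hcm : ∀ j, ∀ u, (N ^ j) (d u - u) = d ((N ^ j) u) - (N ^ j) u := by
              intro j
              induction j with
              | zero => intro u; rfl
              | succ j ihj =>
                intro u
                rw [pow_succ, Module.End.mul_apply, Module.End.mul_apply]
                have : N (d u - u) = d (N u) - N u := by
                  simp only [hN, LinearMap.sub_apply, Module.End.one_apply, LinearEquiv.coe_coe,
                    map_sub, hcd]
                rw [this, ihj]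
            rw [← hcm]
            have : ∀ j, ∀ u, Fix K u → Fix K ((N ^ j) u) := by
              intro j
              induction j with
              | zero => intro u hu; exact hu
              | succ j ihj =>
                intro u hu
                rw [pow_succ, Module.End.mul_apply]
                refine ihj _ ?_
                show Fix K (c u - u)
                intro e he
                rw [map_sub, ← mul_app, hCK c hcC e he, mul_app, hu e he]
            exact this k _ (hwl d hd)
      have : Finite (V ≃ₗ[ZMod p] V) := finite_equiv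
      cases nonempty_fintype C
      obtain ⟨w, hwf, hwl⟩ := hlist ((Finset.univ : Finset C).toList.map Subtype.val)
        (fun c hc => by obtain ⟨⟨d, hd⟩, -, rfl⟩ := List.mem_map.1 hc; exact hd)
      apply hwf
      refine fixed_of_sub_fixed hK.perfect fun e he => hXK _ ?_
      intro c hc
      have hcw : Fix K (c w - w) := hwl c (List.mem_map.2 ⟨⟨c, hc⟩, by simp, rfl⟩)
      have h1 := hcw e he
      rw [map_sub, ← mul_app, hCK c hc e he, mul_app] at h1
      rw [map_sub]
      rw [sub_eq_sub_iff_sub_eq_sub]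
      exact h1
    -- the hypotheses on `X`
    have hperf : ⁅rK.range, rK.range⁆ = rK.range := by
      have hp : Group.IsPerfect K := Subgroup.isPerfect_iff.mpr hK.perfect
      exact Subgroup.isPerfect_iff.mp (Group.IsPerfect.range rK)
    have hne' : rK.range ≠ ⊥ := fun h => by
      obtain ⟨g, hg⟩ := hnt
      exact hg (Subgroup.mem_bot.1 (h ▸ ⟨g, rfl⟩))
    have hdich : ∀ N, N ≤ rK.range → rK.range ≤ Subgroup.normalizer (N : Set (X ≃ₗ[ZMod p] X)) →
        N = rK.range ∨ N ≤ Subgroup.centralizer (rK.range : Set (X ≃ₗ[ZMod p] X)) := by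
      intro N hN hn'
      rcases hK.dich ((N.comap rK).map K.subtype) (Subgroup.map_subtype_le _) (fun k hk => by
          have hc : ∀ (k : K) (n : K), n ∈ N.comap rK → k * n * k⁻¹ ∈ N.comap rK := fun k n hn0 => by
            rw [Subgroup.mem_comap, map_mul, map_mul, map_inv]
            exact (Subgroup.mem_normalizer_iff.1 (hn' ⟨k, rfl⟩) _).1 hn0
          rw [Subgroup.mem_normalizer_iff]
          refine fun m => ⟨?_, fun hm => ?_⟩
          · rintro ⟨m, hm, rfl⟩
            exact ⟨_, hc ⟨k, hk⟩ m hm, rfl⟩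
          · obtain ⟨m', hm', e⟩ := hm
            refine ⟨_, hc ⟨k, hk⟩⁻¹ m' hm', ?_⟩
            simp only [Subgroup.coe_subtype, Subgroup.coe_mul, Subgroup.coe_inv, inv_inv] at e ⊢
            rw [e]; group) with h | h
      · left
        refine le_antisymm hN ?_
        rintro _ ⟨g, rfl⟩
        obtain ⟨m, hm, e⟩ := (h.ge g.2 : (g : V ≃ₗ[ZMod p] V) ∈ _)
        rw [← Subtype.ext e]
        exact hm
      · right
        intro m hm
        obtain ⟨m, rfl⟩ := hN hm
        rw [Subgroup.mem_centralizer_iff]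
        rintro _ ⟨g, rfl⟩
        have := Subgroup.mem_centralizer_iff.1 (h ⟨m, hm, rfl⟩) g.1 g.2
        rw [← map_mul, ← map_mul]
        exact congrArg rK (Subtype.ext this)
    have hcomm' : ∀ u ∈ rA.range, ∀ w ∈ rA.range, u * w = w * u := by
      rintro _ ⟨u, rfl⟩ _ ⟨w, rfl⟩
      rw [← map_mul, ← map_mul]
      exact congrArg rA (Subtype.ext (hcomm _ u.2 _ w.2))
    have hexp' : ∀ u ∈ rA.range, u ^ p = 1 := by
      rintro _ ⟨u, rfl⟩
      rw [← map_pow, ← map_one rA]
      exact congrArg rA (Subtype.ext (by simpa using hexp _ u.2))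
    have : Finite (V ≃ₗ[ZMod p] V) := finite_equiv
    have hmax' : IsMax rA.range := by
      intro B' hB'
      set Bp : Subgroup A := B'.comap rA with hBp
      let g : Bp →* B' := (rA.comp Bp.subtype).codRestrict B' fun x => x.2
      have hg : Function.Surjective g := fun y => by
        obtain ⟨x, hx⟩ := hB' y.2
        exact ⟨⟨x, show rA x ∈ B' from hx ▸ y.2⟩, Subtype.ext hx⟩
      have hkg : Nat.card g.ker = Nat.card rA.ker := Nat.card_congr
        { toFun := fun x => ⟨x.1.1, by
            have := congrArg Subtype.val (x.2 : g x.1 = 1)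
            exact this⟩
          invFun := fun x => ⟨⟨x.1, show rA x.1 ∈ B' by rw [(x.2 : rA x.1 = 1)]; exact one_mem B'⟩,
            Subtype.ext (x.2 : rA x.1 = 1)⟩
          left_inv := fun x => rfl
          right_inv := fun x => rfl }
      have hBcard : Nat.card Bp = Nat.card B' * Nat.card rA.ker := by
        rw [← Subgroup.card_mul_index g.ker, Subgroup.index_ker, MonoidHom.range_eq_top.2 hg,
          Subgroup.card_top, hkg, mul_comm]
      have hAcard : Nat.card A = Nat.card rA.range * Nat.card rA.ker := by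
        rw [← Subgroup.card_mul_index rA.ker, Subgroup.index_ker, mul_comm]
      have hBA : Bp.map A.subtype ≤ A := Subgroup.map_subtype_le _
      have h1 := hmax _ hBA
      have hc1 : Nat.card (Bp.map A.subtype) = Nat.card Bp :=
        Nat.card_congr (Bp.equivMapOfInjective _ A.subtype_injective).symm.toEquiv
      have hfB : Nat.card (fixS B') ≤ Nat.card (fixS (Bp.map A.subtype)) := by
        refine Nat.card_le_card_of_injective (fun w => ⟨((w : X) : V), ?_⟩) ?_
        · rintro _ ⟨x, hx, rfl⟩
          exact congrArg Subtype.val (w.2 (rA x) hx)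
        · intro u w e
          have e' : ((u : X) : V) = ((w : X) : V) :=
            congrArg (fun z : fixS (Bp.map A.subtype) => (z : V)) e
          exact Subtype.ext (Subtype.ext e')
      have hfA : Nat.card (fixS A) ≤ Nat.card (fixS rA.range) := by
        refine Nat.card_le_card_of_injective (fun w => ⟨⟨(w : V), fun c hc => w.2 c hc.1⟩, ?_⟩) ?_
        · rintro _ ⟨x, rfl⟩
          exact Subtype.ext (w.2 x.1 x.2)
        · intro u w e
          exact Subtype.ext (congrArg (fun z : fixS rA.range => ((z : X) : V)) e)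
      rw [hc1, hBcard, hAcard] at h1
      refine Nat.le_of_mul_le_mul_right (c := Nat.card rA.ker) ?_ Nat.card_pos
      calc Nat.card B' * Nat.card (fixS B') * Nat.card rA.ker
          = Nat.card B' * Nat.card rA.ker * Nat.card (fixS B') := by ring
        _ ≤ Nat.card B' * Nat.card rA.ker * Nat.card (fixS (Bp.map A.subtype)) :=
          Nat.mul_le_mul_left _ hfB
        _ ≤ Nat.card rA.range * Nat.card rA.ker * Nat.card (fixS A) := h1
        _ ≤ Nat.card rA.range * Nat.card rA.ker * Nat.card (fixS rA.range) :=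
          Nat.mul_le_mul_left _ hfA
        _ = _ := by ring
    have hconj' : ∀ u ∈ rA.range, NK rK.range u ∨ Apart rK.range 1 u := by
      rintro _ ⟨u, rfl⟩
      rcases hconj u.1 u.2 with h | h
      · left
        rintro _ ⟨x, rfl⟩
        exact ⟨⟨_, h x.1 x.2⟩, LinearEquiv.ext fun w => Subtype.ext rfl⟩
      · right
        rintro _ ⟨x, rfl⟩ _ ⟨y, rfl⟩
        exact LinearEquiv.ext fun w => Subtype.ext (LinearEquiv.congr_fun (h x.1 x.2 y.1 y.2) (w : V))
    have key := ih hXlt ⟨hperf, hne', hdich⟩ hcomm' hexp' hmax' hconj' (rA ⟨a, ha⟩) ⟨_, rfl⟩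
    -- then `K` is abelian on `X`
    have hap := (hconj a ha).resolve_left hna
    obtain ⟨g, hg⟩ := hnt
    have hcommK : ∀ x ∈ rK.range, ∀ y ∈ rK.range, x * y = y * x := by
      rintro _ ⟨x, rfl⟩ _ ⟨y, rfl⟩
      set α := rA ⟨a, ha⟩
      have hy : α * rK y * α⁻¹ ∈ rK.range := key _ ⟨y, rfl⟩
      obtain ⟨y', hy'⟩ := hy
      have h1 : (α * rK x * α⁻¹) * rK y' = rK y' * (α * rK x * α⁻¹) :=
        LinearEquiv.ext fun w => Subtype.ext
          (LinearEquiv.congr_fun ((hap.one_commute y'.2 x.2).eq.symm) (w : V))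
      rw [hy'] at h1
      calc rK x * rK y = α⁻¹ * ((α * rK x * α⁻¹) * (α * rK y * α⁻¹)) * α := by group
        _ = α⁻¹ * ((α * rK y * α⁻¹) * (α * rK x * α⁻¹)) * α := by rw [h1]
        _ = _ := by group
    refine hne' ?_
    rw [← hperf, Subgroup.commutator_eq_bot_iff_le_centralizer]
    intro x hx
    rw [Subgroup.mem_centralizer_iff]
    intro y hy
    exact hcommK y hy x hx

end Cfsg.Agent.Lib.OffenderComp
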