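import Cfsg.Agent.Lib.OffenderComp.Three

/-!
# An element exchanging two commuting conjugates

Owner: helper54. `diag a x = x (a x a⁻¹)`; `DiagFix K a` says every `diag a x`, `x ∈ K`, fixes
`[V,a]` pointwise.
* `diagFix_of_normalizing`, `diagFix_of_moving`: sources of `DiagFix`;
* `false_of_fixed`: then `K` does not fix `[V,a]`;
* `false_of_third`: two commuting involutions with this property cannot give three conjugates.
-/

namespace Cfsg.Agent.Lib.OffenderComp

open scoped commutatorElement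

variable {R : Type*} [CommRing R] {V : Type*} [AddCommGroup V] [Module R V]
  {K : Subgroup (V ≃ₗ[R] V)} {a b c : V ≃ₗ[R] V}

/-- `x (a x a⁻¹)`. -/
def diag (a x : V ≃ₗ[R] V) : V ≃ₗ[R] V := x * (a * x * a⁻¹)

/-- every `diag a x` fixes `[V,a]` -/
def DiagFix (K : Subgroup (V ≃ₗ[R] V)) (a : V ≃ₗ[R] V) : Prop :=
  ∀ x ∈ K, ∀ v, diag a x (a v - v) = a v - v

theorem Apart.one_app {x y : V ≃ₗ[R] V} (h : Apart K 1 a) (hx : x ∈ K) (hy : y ∈ K) (v : V) :
    x ((a * y * a⁻¹) v) = (a * y * a⁻¹) (x v) := by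
  simpa [mul_app] using h.app hx hy v

theorem Apart.one_commute {x y : V ≃ₗ[R] V} (h : Apart K 1 a) (hx : x ∈ K) (hy : y ∈ K) :
    Commute x (a * y * a⁻¹) := by
  have := h x hx y hy
  rw [one_mul, inv_one, mul_one] at this
  exact this

theorem diag_mul (h : Apart K 1 a) {x y : V ≃ₗ[R] V} (hx : x ∈ K) (hy : y ∈ K) :
    diag a (x * y) = diag a x * diag a y := by
  have c := (h.one_commute hy hx).eq
  unfold diag
  rw [mul_assoc x (a * x * a⁻¹), ← mul_assoc (a * x * a⁻¹) y, ← c]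
  group

theorem diag_comm_self (ha : a * a = 1) (h : Apart K 1 a) {x : V ≃ₗ[R] V} (hx : x ∈ K) :
    a * diag a x = diag a x * a := by
  have c := (h.one_commute hx hx).eq
  have hi : a⁻¹ = a := inv_eq_of_mul_eq_one_right ha
  unfold diag
  rw [c]
  conv_rhs => rw [← c]
  rw [hi]
  calc a * (a * x * a * x) = (a * a) * x * a * x := by group
    _ = x * a * x := by rw [ha, one_mul]
    _ = x * (a * x * a) * a := by
      rw [show x * (a * x * a) * a = x * a * x * (a * a) by group, ha, mul_one]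

theorem diag_range (ha : a * a = 1) (h : Apart K 1 a) {x : V ≃ₗ[R] V} (hx : x ∈ K) (v : V) :
    diag a x (a v - v) = a (diag a x v) - diag a x v := by
  rw [map_sub, ← mul_app (diag a x) a, ← diag_comm_self ha h hx, mul_app]

/-- `g ↦ diag a g` fixing `[V,a]`, as a subgroup. -/
def diagFixer (ha : a * a = 1) (h : Apart K 1 a) : Subgroup (V ≃ₗ[R] V) where
  carrier := {g | g ∈ K ∧ ∀ v, diag a g (a v - v) = a v - v}
  mul_mem' {g k} hg hk := ⟨mul_mem hg.1 hk.1, fun v => by
    rw [diag_mul h hg.1 hk.1, mul_app, hk.2, hg.2]⟩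
  one_mem' := ⟨one_mem K, fun v => by simp [diag, mul_app, app_inv_app]⟩
  inv_mem' {g} hg := ⟨inv_mem hg.1, fun v => by
    have e := diag_mul h (inv_mem hg.1) hg.1
    rw [inv_mul_cancel] at e
    have e1 : diag a 1 = 1 := by simp [diag]
    rw [e1] at e
    conv_lhs => rw [← hg.2 v]
    rw [← mul_app, ← e]; rfl⟩

theorem le_normalizer_diagFixer (ha : a * a = 1) (h : Apart K 1 a) :
    K ≤ Subgroup.normalizer (diagFixer ha h : Set (V ≃ₗ[R] V)) := by
  have hconj : ∀ k ∈ K, ∀ n ∈ diagFixer ha h, k * n * k⁻¹ ∈ diagFixer ha h := fun k hk n hn =>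
    ⟨mul_mem (mul_mem hk hn.1) (inv_mem hk), fun v => by
      rw [diag_mul h (mul_mem hk hn.1) (inv_mem hk), diag_mul h hk hn.1, mul_app, mul_app,
        diag_range ha h (inv_mem hk), hn.2, ← diag_range ha h (inv_mem hk), ← mul_app,
        ← diag_mul h hk (inv_mem hk), mul_inv_cancel]
      simp [diag, mul_app, app_inv_app]⟩
  intro k hk
  rw [Subgroup.mem_normalizer_iff]
  refine fun n => ⟨fun hn => hconj k hk n hn, fun hn => ?_⟩
  have := hconj k⁻¹ (inv_mem hk) _ hn
  simpa [mul_assoc] using this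

theorem diagFix_of_normalizing (hK : IsQS K) (ha : a * a = 1) (h : Apart K 1 a)
    (hb : ∀ x ∈ K, b * x * b⁻¹ ∈ K) (hbK : ∃ x ∈ K, b * x ≠ x * b) (hab : a * b = b * a)
    (hfix : ∀ v, b (a v - v) = a v - v) : DiagFix K a := by
  have hN : diagFixer ha h = K := by
    refine eq_of_twist hK hb hbK (fun g hg => hg.1) (le_normalizer_diagFixer ha h) fun x hx => ?_
    refine ⟨mul_mem (inv_mem hx) (hb x hx), fun v => ?_⟩
    have e : diag a (b * x * b⁻¹) = b * diag a x * b⁻¹ := by
      unfold diag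
      have c1 : a * b = b * a := hab
      have c2 : b⁻¹ * a⁻¹ = a⁻¹ * b⁻¹ := by rw [← mul_inv_rev, ← mul_inv_rev, c1]
      calc b * x * b⁻¹ * (a * (b * x * b⁻¹) * a⁻¹) = b * x * b⁻¹ * ((a * b) * x * (b⁻¹ * a⁻¹)) := by
            group
        _ = _ := by rw [c1, c2]; group
    rw [diag_mul h (inv_mem hx) (hb x hx), e, mul_app, mul_app, mul_app, fix_inv (hfix v),
      diag_range ha h hx, hfix, ← diag_range ha h hx, ← mul_app, ← diag_mul h (inv_mem hx) hx,
      inv_mul_cancel]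
    simp [diag, mul_app, app_inv_app]
  intro x hx v
  rw [← hN] at hx
  exact hx.2 v

theorem diagFix_of_moving (hK : IsQS K) (ha : a * a = 1) (h : Apart K 1 a) (hac : a * c = c * a)
    (hfix : ∀ v, c (a v - v) = a v - v) (h1 : Apart K 1 c) (h2 : Apart K a c)
    (h3 : Apart K 1 (c * a)) (h4 : Apart K a (c * a)) : DiagFix K a := by
  have hN : ⁅K, K⁆ ≤ diagFixer ha h := Subgroup.commutator_le.2 fun g hg k hk => by
    refine ⟨by rw [commutatorElement_def];
               exact mul_mem (mul_mem (mul_mem hg hk) (inv_mem hg)) (inv_mem hk), fun v => ?_⟩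
    -- `diag` is commutative on `[V,a]`
    have com : ∀ g ∈ K, ∀ k ∈ K, ∀ v,
        diag a g (diag a k (a v - v)) = diag a k (diag a g (a v - v)) := by
      intro g hg k hk v
      have hd : ∀ x ∈ K, ∀ v, (c * diag a x * c⁻¹) (a v - v) = diag a x (a v - v) := fun x hx v => by
        rw [mul_app, mul_app, fix_inv (hfix v), diag_range ha h hx, hfix]
      have e1 : ∀ x, c * diag a x * c⁻¹ = (c * x * c⁻¹) * ((c * a) * x * (c * a)⁻¹) := fun x => by
        unfold diag; group
      have hcomm : diag a g * (c * diag a k * c⁻¹) = (c * diag a k * c⁻¹) * diag a g := by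
        rw [e1]
        exact Commute.eq (((h1.one_commute hg hk).mul_right (h3.one_commute hg hk)).mul_left
          ((Commute.mul_right (show Commute _ _ from h2 g hg k hk)
            (show Commute _ _ from h4 g hg k hk))))
      calc diag a g (diag a k (a v - v)) = (diag a g * (c * diag a k * c⁻¹)) (a v - v) := by
            rw [mul_app, hd k hk]
        _ = _ := by rw [hcomm, mul_app, diag_range ha h hg, hd k hk]
    rw [commutatorElement_def, mul_assoc (g * k), diag_mul h (mul_mem hg hk)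
      (mul_mem (inv_mem hg) (inv_mem hk)), mul_app, diag_mul h (inv_mem hg) (inv_mem hk), mul_app,
      com _ (inv_mem hg) _ (inv_mem hk), ← mul_app (diag a k⁻¹), ← diag_mul h (inv_mem hk)
        (inv_mem hg), ← mul_app, ← diag_mul h (mul_mem hg hk) (mul_mem (inv_mem hk) (inv_mem hg)),
      ← mul_inv_rev, mul_inv_cancel]
    simp [diag, mul_app, app_inv_app]
  rw [hK.perfect] at hN
  exact fun x hx v => (hN hx).2 v

theorem DiagFix.conj_eq (hd : DiagFix K a) (h : Apart K 1 a) {x : V ≃ₗ[R] V} (hx : x ∈ K) (v : V) :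
    (a * x * a⁻¹) (a v - v) = x⁻¹ (a v - v) := by
  refine (inv_app_eq ?_).symm
  rw [← mul_app]; exact hd x hx v

/-- `K` does not fix `[V,a]` pointwise. -/
theorem false_of_fixed (hK : IsQS K) (h : Apart K 1 a) (hd : DiagFix K a)
    (hf : ∀ v, Fix K (a v - v)) : False := by
  have key : ∀ x ∈ K, ∀ v, Fix K ((a * x * a⁻¹) v - x v) := fun x hx v => by
    have e1 : (a * x * a⁻¹) (a v - v) = a v - v := by
      rw [hd.conj_eq h hx, hf v _ (inv_mem hx)]
    have e : (a * x * a⁻¹) v - x v = (a (x v) - x v) - (a v - v) := by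
      rw [← e1, map_sub, mul_app, mul_app, mul_app, mul_app, inv_app_app]
      abel
    rw [e]; exact (hf _).sub (hf v)
  refine hK.ne_bot (eq_bot_iff.2 fun g hg => Subgroup.mem_bot.2 (LinearEquiv.ext fun v => ?_))
  refine fixed_of_comm_mod hK.perfect (fun g hg k hk => ?_) g hg
  have e : g (k v) - k (g v) =
      k ((a * g * a⁻¹) v - g v) - ((a * g * a⁻¹) (k v) - g (k v)) := by
    rw [map_sub, h.one_app hk hg]; abel
  rw [e]
  exact ((key g hg v).app hk).sub (key g hg (k v))

/-- No three conjugates. -/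
theorem false_of_third (hK : IsQS K) (hac : a * c = c * a)
    (hda : DiagFix K a) (hdc : DiagFix K c) (hca : ∀ v, c (a v - v) = a v - v)
    (h1a : Apart K 1 a) (h1c : Apart K 1 c) (hac' : Apart K a c) : False := by
  refine false_of_fixed hK h1a hda fun v0 => ?_
  set r := a v0 - v0 with hr
  have hcr : c⁻¹ r = r := fix_inv (hca v0)
  -- `F`: fixed by `K` and by `cKc⁻¹`
  have hD : ∀ w, (∀ x ∈ K, ∀ y ∈ K, diag c y ((c * x * c⁻¹) w) = (c * x * c⁻¹) w) →
      Fix K w ∧ Fix K (c⁻¹ w) := by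
    intro w hw
    have hy1 : ∀ x ∈ K, ∀ y ∈ K,
        (c * y * c⁻¹) ((c * x * c⁻¹) w) = y⁻¹ ((c * x * c⁻¹) w) := fun x hx y hy =>
      (inv_app_eq (by rw [← mul_app]; exact hw x hx y hy)).symm
    have hyy : ∀ y ∈ K, (c * y * c⁻¹) w = y⁻¹ w := fun y hy => by
      simpa [mul_app, app_inv_app] using hy1 1 (one_mem K) y hy
    have hf2 : Fix K (c⁻¹ w) := by
      refine fixed_of_comm_mod hK.perfect fun y hy x hx => ?_
      have e : (c * y * c⁻¹) ((c * x * c⁻¹) w) = (c * x * c⁻¹) ((c * y * c⁻¹) w) := by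
        rw [hy1 x hx y hy, hyy y hy, h1c.one_app (inv_mem hy) hx]
      simp only [mul_app, inv_app_app] at e
      rw [c.injective e, sub_self]
      exact Fix.zero
    refine ⟨fun y hy' => ?_, hf2⟩
    have e1 : ∀ y ∈ K, (c * y * c⁻¹) w = w := fun y hy => by
      rw [mul_app, mul_app, hf2 y hy, app_inv_app]
    have e2 := hyy y⁻¹ (inv_mem hy')
    rw [e1 _ (inv_mem hy'), inv_inv] at e2
    exact e2.symm
  have hm : ∀ x ∈ K, ∀ y ∈ K, diag c y ((c * x * c⁻¹) r - x r) = (c * x * c⁻¹) r - x r := by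
    intro x hx y hy
    have : (c * x * c⁻¹) r - x r = c (x r) - x r := by rw [mul_app, mul_app, hcr]
    rw [this]; exact hdc y hy _
  have hw : ∀ z ∈ K, Fix K (z r - (c * z * c⁻¹) r) ∧ Fix K (c⁻¹ (z r - (c * z * c⁻¹) r)) := by
    intro z hz
    refine hD _ fun x hx y hy => ?_
    have hz' : ∀ t, diag c y ((a * z⁻¹ * a⁻¹) t) = (a * z⁻¹ * a⁻¹) (diag c y t) := fun t => by
      unfold diag
      rw [mul_app, ← hac'.app (inv_mem hz) hy, h1a.one_app hy (inv_mem hz), ← mul_app y]
    have e1 : (a * z⁻¹ * a⁻¹) ((c * x * c⁻¹) r - x r) = (c * x * c⁻¹) (z r) - x (z r) := by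
      rw [map_sub, hac'.app (inv_mem hz) hx, ← h1a.one_app hx (inv_mem hz),
        hr, hda.conj_eq h1a (inv_mem hz), inv_inv]
    have d1 : diag c y ((c * x * c⁻¹) (z r) - x (z r)) = (c * x * c⁻¹) (z r) - x (z r) := by
      rw [← e1, hz', hm x hx y hy]
    have d2 : diag c y ((c * (x * z) * c⁻¹) r - (x * z) r) = (c * (x * z) * c⁻¹) r - (x * z) r :=
      hm _ (mul_mem hx hz) y hy
    have e2 : (c * x * c⁻¹) (z r - (c * z * c⁻¹) r) =
        ((c * x * c⁻¹) (z r) - x (z r)) - ((c * (x * z) * c⁻¹) r - (x * z) r) := by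
      rw [map_sub]
      simp only [mul_app, inv_app_app]
      abel
    rw [e2, map_sub, d1, d2]
  refine fixed_of_comm_mod hK.perfect fun g hg k hk => ?_
  have e1 : ∀ t, g ((c * k * c⁻¹) t) = (c * k * c⁻¹) (g t) := fun t => h1c.one_app hg hk t
  set f1 := k r - (c * k * c⁻¹) r with hf1
  set f2 := g r - (c * g * c⁻¹) r with hf2
  set f3 := (k * g) r - (c * (k * g) * c⁻¹) r with hf3
  have h1 : g (k r) = f1 + (c * k * c⁻¹) (g r) := by
    have := (hw k hk).1 g hg
    rw [map_sub, e1] at this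
    rw [hf1, ← this]; abel
  have h2 : (c * k * c⁻¹) (g r) = (c * k * c⁻¹) f2 + (c * (k * g) * c⁻¹) r := by
    have e : (c * (k * g) * c⁻¹) r = (c * k * c⁻¹) ((c * g * c⁻¹) r) := by rw [← mul_app]; group
    rw [hf2, e, ← map_add, sub_add_cancel, hr, map_sub g]
  have h3 : (c * k * c⁻¹) f2 = f2 := by
    rw [mul_app, mul_app, (hw g hg).2 k hk, app_inv_app]
  have : g (k r) - k (g r) = f1 + f2 - f3 := by
    rw [h1, h2, h3, hf3, mul_app k g]; abel
  rw [this]
  exact ((hw k hk).1.add (hw g hg).1).sub (hw _ (mul_mem hk hg)).1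

end Cfsg.Agent.Lib.OffenderComp
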