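import Mathlib.Algebra.Module.Equiv.Basic
import Mathlib.Algebra.Module.Submodule.Map
import Mathlib.Algebra.Module.ZMod
import Mathlib.LinearAlgebra.Span.Basic
import Mathlib.GroupTheory.Commutator.Basic

/-!
# Perfect linear groups: fixed-point lemmas

Owner: helper54. `V` is a module, groups are subgroups of `V ≃ₗ[R] V`.
* `IsQS K`: `K` perfect, nontrivial, every subgroup normalised by `K` is `K` or centralised by `K`.
* `fixed_of_comm_mod`: a vector on which `K` acts commutatively modulo fixed points is fixed.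
* `fixed_of_twist`: if `x^b v ≡ x v` modulo fixed points on a `K`-invariant set, `K` fixes it.
-/

namespace Cfsg.Agent.Lib.OffenderComp

open scoped commutatorElement

variable {R : Type*} [CommRing R] {V : Type*} [AddCommGroup V] [Module R V]

/-- `v` is fixed by every element of `K`. -/
def Fix (K : Subgroup (V ≃ₗ[R] V)) (v : V) : Prop := ∀ g ∈ K, g v = v

variable {K : Subgroup (V ≃ₗ[R] V)} {u v : V} {b : V ≃ₗ[R] V}

theorem mul_app (g h : V ≃ₗ[R] V) (v : V) : (g * h) v = g (h v) := rfl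

theorem inv_app_app (g : V ≃ₗ[R] V) (v : V) : g⁻¹ (g v) = v := g.symm_apply_apply v

theorem app_inv_app (g : V ≃ₗ[R] V) (v : V) : g (g⁻¹ v) = v := g.apply_symm_apply v

theorem inv_app_eq {g : V ≃ₗ[R] V} (h : g u = v) : g⁻¹ v = u := by
  rw [← h, inv_app_app]

theorem fix_inv {g : V ≃ₗ[R] V} (h : g v = v) : g⁻¹ v = v := inv_app_eq h

theorem Fix.zero : Fix K (0 : V) := fun g _ => map_zero g

theorem Fix.add (hu : Fix K u) (hv : Fix K v) : Fix K (u + v) := fun g hg => by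
  rw [map_add, hu g hg, hv g hg]

theorem Fix.neg (hu : Fix K u) : Fix K (-u) := fun g hg => by rw [map_neg, hu g hg]

theorem Fix.sub (hu : Fix K u) (hv : Fix K v) : Fix K (u - v) := fun g hg => by
  rw [map_sub, hu g hg, hv g hg]

theorem Fix.app (hu : Fix K u) {g : V ≃ₗ[R] V} (hg : g ∈ K) : Fix K (g u) := by
  rw [hu g hg]; exact hu

/-- Quasisimple-type hypothesis on a linear group. -/
structure IsQS (K : Subgroup (V ≃ₗ[R] V)) : Prop where
  perfect : ⁅K, K⁆ = K
  ne_bot : K ≠ ⊥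
  dich : ∀ N : Subgroup (V ≃ₗ[R] V), N ≤ K → K ≤ Subgroup.normalizer (N : Set (V ≃ₗ[R] V)) →
    N = K ∨ N ≤ Subgroup.centralizer (K : Set (V ≃ₗ[R] V))

/-- If `K` is perfect and commutes modulo fixed points on `v`, it fixes `v`. -/
theorem fixed_of_comm_mod (hK : ⁅K, K⁆ = K)
    (h : ∀ g ∈ K, ∀ k ∈ K, Fix K (g (k v) - k (g v))) : Fix K v := by
  let S : Subgroup (V ≃ₗ[R] V) :=
    { carrier := {g | g ∈ K ∧ Fix K (g v - v)}
      mul_mem' := by
        rintro g k ⟨hg, hgf⟩ ⟨hk, hkf⟩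
        refine ⟨mul_mem hg hk, ?_⟩
        have : (g * k) v - v = g (k v - v) + (g v - v) := by rw [map_sub, mul_app]; abel
        rw [this]
        exact (hkf.app hg).add hgf
      one_mem' := ⟨one_mem K, by
        have : (1 : V ≃ₗ[R] V) v - v = 0 := sub_self v
        rw [this]; exact Fix.zero⟩
      inv_mem' := by
        rintro g ⟨hg, hgf⟩
        refine ⟨inv_mem hg, ?_⟩
        have h1 : g⁻¹ (g v - v) = g v - v := fix_inv (hgf g hg)
        rw [map_sub, inv_app_app] at h1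
        have : g⁻¹ v - v = -(g v - v) := by rw [← h1]; abel
        rw [this]; exact hgf.neg }
  have hle : ⁅K, K⁆ ≤ S := Subgroup.commutator_le.2 fun g hg k hk => by
    refine ⟨?_, ?_⟩
    · rw [commutatorElement_def]
      exact mul_mem (mul_mem (mul_mem hg hk) (inv_mem hg)) (inv_mem hk)
    have hf := h g⁻¹ (inv_mem hg) k⁻¹ (inv_mem hk)
    have h1 : g (k (g⁻¹ (k⁻¹ v) - k⁻¹ (g⁻¹ v))) = g⁻¹ (k⁻¹ v) - k⁻¹ (g⁻¹ v) := by
      rw [hf k hk, hf g hg]
    rw [map_sub, map_sub, app_inv_app, app_inv_app] at h1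
    have : ⁅g, k⁆ v - v = g⁻¹ (k⁻¹ v) - k⁻¹ (g⁻¹ v) := by
      rw [commutatorElement_def, mul_app, mul_app, mul_app, h1]
    rw [this]; exact hf
  rw [hK] at hle
  have hsub : ∀ g ∈ K, Fix K (g v - v) := fun g hg => (hle hg).2
  let T : Subgroup (V ≃ₗ[R] V) :=
    { carrier := {g | g v = v}
      mul_mem' := fun {g k} (hg : g v = v) (hk : k v = v) =>
        show (g * k) v = v by rw [mul_app, hk, hg]
      one_mem' := show (1 : V ≃ₗ[R] V) v = v from rfl
      inv_mem' := fun {g} (hg : g v = v) => show g⁻¹ v = v from fix_inv hg }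
  have hT : ⁅K, K⁆ ≤ T := Subgroup.commutator_le.2 fun g hg k hk => by
    show ⁅g, k⁆ v = v
    have e1 : ∀ a ∈ K, ∀ c ∈ K, a (c v) = (a v - v) + (c v - v) + v := fun a ha c hc => by
      have := hsub c hc a ha
      rw [map_sub] at this
      have h2 : a (c v) = (c v - v) + a v := by rw [← this]; abel
      rw [h2]; abel
    have hcomm : g (k v) = k (g v) := by rw [e1 g hg k hk, e1 k hk g hg]; abel
    have hd : g⁻¹ * k⁻¹ ∈ K := mul_mem (inv_mem hg) (inv_mem hk)
    have h3 : ⁅g, k⁆ v = (g * k) ((g⁻¹ * k⁻¹) v) := by rw [← mul_app, commutatorElement_def]; group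
    have h4 : (k * g) ((g⁻¹ * k⁻¹) v) = v := by
      rw [← mul_inv_rev, app_inv_app]
    rw [h3, e1 _ (mul_mem hg hk) _ hd, mul_app g k, hcomm, ← mul_app k g,
      ← e1 _ (mul_mem hk hg) _ hd, h4]
  rw [hK] at hT
  exact fun g hg => hT hg

/-- If `g v - v` is fixed for all `g`, then `v` is fixed. -/
theorem fixed_of_sub_fixed (hK : ⁅K, K⁆ = K) (h : ∀ g ∈ K, Fix K (g v - v)) : Fix K v := by
  refine fixed_of_comm_mod hK fun g hg k hk => ?_
  have e1 : g (k v) - k (g v) = 0 := by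
    have a1 := h k hk g hg
    have a2 := h g hg k hk
    rw [map_sub] at a1 a2
    have b1 : g (k v) = k v - v + g v := by rw [← a1]; abel
    have b2 : k (g v) = g v - v + k v := by rw [← a2]; abel
    rw [b1, b2]; abel
  rw [e1]; exact Fix.zero

/-- A subgroup normalised by `K` containing all `x⁻¹ x^b` is `K`. -/
theorem eq_of_twist (hK : IsQS K) (hb : ∀ x ∈ K, b * x * b⁻¹ ∈ K)
    (hbK : ∃ x ∈ K, b * x ≠ x * b) {N : Subgroup (V ≃ₗ[R] V)} (hN : N ≤ K)
    (hKN : K ≤ Subgroup.normalizer (N : Set (V ≃ₗ[R] V)))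
    (h : ∀ x ∈ K, x⁻¹ * (b * x * b⁻¹) ∈ N) : N = K := by
  refine (hK.dich N hN hKN).resolve_right fun hc => ?_
  obtain ⟨x0, hx0, hne⟩ := hbK
  have hle : ⁅K, K⁆ ≤ Subgroup.centralizer {b} := Subgroup.commutator_le.2 fun x hx y hy => by
    rw [Subgroup.mem_centralizer_iff]
    intro c hc'
    rw [Set.mem_singleton_iff] at hc'
    subst c
    set n := x⁻¹ * (b * x * b⁻¹) with hn
    set m := y⁻¹ * (b * y * b⁻¹) with hm
    have cn : ∀ z ∈ K, z * n = n * z := fun z hz => Subgroup.mem_centralizer_iff.1 (hc (h x hx)) z hz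
    have cm : ∀ z ∈ K, z * m = m * z := fun z hz => Subgroup.mem_centralizer_iff.1 (hc (h y hy)) z hz
    have e : ⁅x * n, y * m⁆ = ⁅x, y⁆ := by
      have hcn : ∀ z ∈ K, Commute z n := cn
      have hcm : ∀ z ∈ K, Commute z m := cm
      have hnm : Commute n m := hcm n (hN (h x hx))
      simp only [commutatorElement_def, mul_inv_rev]
      calc x * n * (y * m) * (n⁻¹ * x⁻¹) * (m⁻¹ * y⁻¹)
          = x * (n * y) * (m * n⁻¹) * x⁻¹ * m⁻¹ * y⁻¹ := by group
        _ = x * (y * n) * (n⁻¹ * m) * x⁻¹ * m⁻¹ * y⁻¹ := by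
          rw [← (hcn y hy).eq, (hnm.inv_left).eq]
        _ = x * y * (m * x⁻¹) * m⁻¹ * y⁻¹ := by group
        _ = x * y * (x⁻¹ * m) * m⁻¹ * y⁻¹ := by rw [← ((hcm x hx).inv_left).eq]
        _ = x * y * x⁻¹ * y⁻¹ := by group
    have e2 : b * ⁅x, y⁆ * b⁻¹ = ⁅x, y⁆ := by
      have ex : x * n = b * x * b⁻¹ := by rw [hn]; group
      have ey : y * m = b * y * b⁻¹ := by rw [hm]; group
      rw [ex, ey] at e
      conv_rhs => rw [← e]
      simp only [commutatorElement_def]
      group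
    exact mul_inv_eq_iff_eq_mul.1 e2
  rw [hK.perfect] at hle
  exact hne (Subgroup.mem_centralizer_iff.1 (hle hx0) b rfl)

/-- If `x^b v ≡ x v` modulo fixed points on a `K`-invariant set, then `K` fixes it. -/
theorem fixed_of_twist (hK : IsQS K) (hb : ∀ x ∈ K, b * x * b⁻¹ ∈ K)
    (hbK : ∃ x ∈ K, b * x ≠ x * b) (U : Set V) (hU : ∀ g ∈ K, ∀ v ∈ U, g v ∈ U)
    (h : ∀ x ∈ K, ∀ v ∈ U, Fix K ((b * x * b⁻¹) v - x v)) : ∀ v ∈ U, Fix K v := by
  let N : Subgroup (V ≃ₗ[R] V) :=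
    { carrier := {g | g ∈ K ∧ ∀ v ∈ U, Fix K (g v - v)}
      mul_mem' := by
        rintro g k ⟨hg, hgf⟩ ⟨hk, hkf⟩
        refine ⟨mul_mem hg hk, fun v hv => ?_⟩
        have : (g * k) v - v = g (k v - v) + (g v - v) := by rw [map_sub, mul_app]; abel
        rw [this]
        exact ((hkf v hv).app hg).add (hgf v hv)
      one_mem' := ⟨one_mem K, fun v _ => by
        have : (1 : V ≃ₗ[R] V) v - v = 0 := sub_self v
        rw [this]; exact Fix.zero⟩
      inv_mem' := by
        rintro g ⟨hg, hgf⟩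
        refine ⟨inv_mem hg, fun v hv => ?_⟩
        have h1 : g⁻¹ (g v - v) = g v - v := fix_inv (hgf v hv g hg)
        rw [map_sub, inv_app_app] at h1
        have : g⁻¹ v - v = -(g v - v) := by rw [← h1]; abel
        rw [this]; exact (hgf v hv).neg }
  have hconj : ∀ k ∈ K, ∀ n ∈ N, k * n * k⁻¹ ∈ N := fun k hk n hn =>
    ⟨mul_mem (mul_mem hk hn.1) (inv_mem hk), fun v hv => by
      have hu : k⁻¹ v ∈ U := hU _ (inv_mem hk) v hv
      have : (k * n * k⁻¹) v - v = k (n (k⁻¹ v) - k⁻¹ v) := by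
        rw [map_sub, app_inv_app, mul_app, mul_app]
      rw [this]
      exact (hn.2 _ hu).app hk⟩
  have hNK : N = K := by
    refine eq_of_twist hK hb hbK (fun g hg => hg.1) (fun k hk => ?_) fun x hx => ?_
    · rw [Subgroup.mem_normalizer_iff]
      refine fun n => ⟨fun hn => hconj k hk n hn, fun hn => ?_⟩
      have := hconj k⁻¹ (inv_mem hk) _ hn
      simpa [mul_assoc] using this
    · refine ⟨mul_mem (inv_mem hx) (hb x hx), fun v hv => ?_⟩
      have h1 := fix_inv (h x hx v hv x hx)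
      rw [map_sub, inv_app_app] at h1
      rw [mul_app, h1]
      exact h x hx v hv
  intro v hv
  refine fixed_of_sub_fixed hK.perfect fun g hg => ?_
  rw [← hNK] at hg
  exact hg.2 v hv

end Cfsg.Agent.Lib.OffenderComp
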