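import Cfsg.Agent.Lib.OffenderComp.Perfect
import Cfsg.Agent.Lib.OffenderComp.Facts
import Mathlib.LinearAlgebra.FiniteDimensional.Lemmas
import Mathlib.LinearAlgebra.Dual.Lemmas
import Mathlib.FieldTheory.Finite.Basic
import Mathlib.GroupTheory.Index

/-!
# Timmesfeld's replacement theorem, linear form

Owner: helper54. For an abelian `p`-subgroup `A` of `GL(V)` maximising `|B| |C_V(B)|` among its
subgroups there is `B ≤ A`, `B ≠ 1`, fixing `[V,A]` pointwise with `|V| ≤ |B| |C_V(B)|`.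
-/

namespace Cfsg.Agent.Lib.OffenderComp

open scoped Pointwise

variable {p : ℕ} [Fact p.Prime] {V : Type*} [AddCommGroup V] [Module (ZMod p) V] [Finite V]

/-- The fixed points of a linear group, as a submodule. -/
def fixS (B : Subgroup (V ≃ₗ[ZMod p] V)) : Submodule (ZMod p) V where
  carrier := {v | Fix B v}
  add_mem' ha hb := ha.add hb
  zero_mem' := Fix.zero
  smul_mem' c v hv := fun g hg => by rw [map_smul, hv g hg]

theorem mem_fixS {B : Subgroup (V ≃ₗ[ZMod p] V)} {v : V} : v ∈ fixS B ↔ Fix B v := Iff.rfl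

theorem finite_equiv : Finite (V ≃ₗ[ZMod p] V) :=
  Finite.of_injective (fun e => (e : V → V)) DFunLike.coe_injective

attribute [local instance] finite_equiv

theorem card_sub_sup (C₁ C₂ : Submodule (ZMod p) V) :
    Nat.card ↥(C₁ ⊔ C₂) * Nat.card ↥(C₁ ⊓ C₂) = Nat.card C₁ * Nat.card C₂ := by
  rw [Module.natCard_eq_pow_finrank (K := ZMod p) (V := ↥(C₁ ⊔ C₂)),
    Module.natCard_eq_pow_finrank (K := ZMod p) (V := ↥(C₁ ⊓ C₂)),
    Module.natCard_eq_pow_finrank (K := ZMod p) (V := ↥C₁),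
    Module.natCard_eq_pow_finrank (K := ZMod p) (V := ↥C₂), ← pow_add, ← pow_add]
  rw [Submodule.finrank_sup_add_finrank_inf_eq]

/-- `[V,A] + C_V(A)`, as the additive closure of a set. -/
def commSet (A : Subgroup (V ≃ₗ[ZMod p] V)) : Submodule (ZMod p) V :=
  Submodule.span (ZMod p) {w | ∃ a ∈ A, ∃ v, w = a v - v} ⊔ fixS A

variable {A : Subgroup (V ≃ₗ[ZMod p] V)}

/-- maximality of the measure -/
def IsMax (A : Subgroup (V ≃ₗ[ZMod p] V)) : Prop :=
  ∀ B, B ≤ A → Nat.card B * Nat.card (fixS B) ≤ Nat.card A * Nat.card (fixS A)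

/-- the properties carried through the intersection induction -/
def Good (A B : Subgroup (V ≃ₗ[ZMod p] V)) : Prop :=
  B ≤ A ∧ Nat.card B * Nat.card (fixS B) = Nat.card A * Nat.card (fixS A) ∧ fixS B ≤ commSet A

/-- `C_A([v,A])`. -/
def centAt (A : Subgroup (V ≃ₗ[ZMod p] V)) (v : V) : Subgroup (V ≃ₗ[ZMod p] V) where
  carrier := {c | c ∈ A ∧ ∀ a ∈ A, c (a v - v) = a v - v}
  mul_mem' {c d} hc hd := ⟨mul_mem hc.1 hd.1, fun a ha => by rw [mul_app, hd.2 a ha, hc.2 a ha]⟩
  one_mem' := ⟨one_mem A, fun a _ => rfl⟩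
  inv_mem' {c} hc := ⟨inv_mem hc.1, fun a ha => fix_inv (hc.2 a ha)⟩

theorem good_centAt (hcomm : ∀ a ∈ A, ∀ b ∈ A, a * b = b * a) (hmax : IsMax A) (v : V) :
    Good A (centAt A v) := by
  have hle : centAt A v ≤ A := fun c hc => hc.1
  have sw : ∀ a ∈ A, ∀ b ∈ A, ∀ w : V, a (b w) = b (a w) := fun a ha b hb w => by
    rw [← mul_app, hcomm a ha b hb, mul_app]
  let g : A × fixS A → fixS (centAt A v) := fun q =>
    ⟨(q.1 : V ≃ₗ[ZMod p] V) v - v + (q.2 : V), fun c hc => by
      rw [map_add, hc.2 _ q.1.2, q.2.2 c hc.1]⟩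
  classical
  let s : fixS (centAt A v) → A := fun w => if h : ∃ q, g q = w then h.choose.1 else 1
  have hsv : ∀ q, ∀ f' : V, (g q : V) = (s (g q) : V ≃ₗ[ZMod p] V) v - v + f' → Fix A f' →
      (q.1 : V ≃ₗ[ZMod p] V) * ((s (g q) : V ≃ₗ[ZMod p] V))⁻¹ ∈ centAt A v := by
    intro q f' hq hf'
    set a : V ≃ₗ[ZMod p] V := q.1.val
    set d : V ≃ₗ[ZMod p] V := (s (g q)).val
    refine ⟨mul_mem q.1.2 (inv_mem (s (g q)).2), fun c hc => ?_⟩
    have e : a v - d v = f' - (q.2 : V) := by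
      change a v - v + (q.2 : V) = d v - v + f' at hq
      have : a v = d v + f' - (q.2 : V) := by
        rw [eq_sub_iff_add_eq]
        have := congrArg (fun z => z + v) hq
        rw [show a v - v + (q.2 : V) + v = a v + q.2 by abel,
          show d v - v + f' + v = d v + f' by abel] at this
        exact this
      rw [this]; abel
    have hfix : Fix A (a v - d v) := by rw [e]; exact hf'.sub q.2.2
    have h1 := hfix c hc
    rw [map_sub, sw c hc a q.1.2, sw c hc d (s (g q)).2] at h1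
    have h2 : a (c v - v) = d (c v - v) := by
      rw [map_sub, map_sub]
      rw [sub_eq_sub_iff_sub_eq_sub]
      exact h1
    rw [hcomm a q.1.2 d⁻¹ (inv_mem (s (g q)).2), mul_app, h2, inv_app_app]
  let Φ : A × fixS A → centAt A v × fixS (centAt A v) := fun q =>
    (⟨(q.1 : V ≃ₗ[ZMod p] V) * ((s (g q) : V ≃ₗ[ZMod p] V))⁻¹, by
      have hex : ∃ q', g q' = g q := ⟨q, rfl⟩
      have hs : s (g q) = hex.choose.1 := dif_pos hex
      refine hsv q hex.choose.2 ?_ hex.choose.2.2
      rw [hs]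
      exact congrArg Subtype.val hex.choose_spec.symm⟩, g q)
  have hinj : Function.Injective Φ := by
    intro q q' h
    obtain ⟨h1, h2⟩ := Prod.ext_iff.1 h
    have h1' := congrArg Subtype.val h1
    simp only [Φ] at h1' h2
    rw [h2] at h1'
    have ha : q.1 = q'.1 := Subtype.ext (mul_right_cancel h1')
    refine Prod.ext ha (Subtype.ext ?_)
    have h2' := congrArg Subtype.val h2
    simp only [g] at h2'
    rw [ha] at h2'
    exact add_left_cancel h2'
  have hcard := Nat.card_le_card_of_injective Φ hinj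
  rw [Nat.card_prod, Nat.card_prod] at hcard
  have heq := le_antisymm (hmax _ hle) hcard
  have hbij := hinj.bijective_of_nat_card_le (by rw [Nat.card_prod, Nat.card_prod]; exact heq.le)
  refine ⟨hle, heq, fun w hw => ?_⟩
  obtain ⟨q, hq⟩ := hbij.2 (1, ⟨w, hw⟩)
  have hq2 : (g q : V) = w := congrArg (fun z => ((z.2 : fixS (centAt A v)) : V)) hq
  rw [← hq2]
  exact add_mem (le_sup_left (b := fixS A) (Submodule.subset_span ⟨_, q.1.2, v, rfl⟩))
    (le_sup_right (a := Submodule.span (ZMod p) {w | ∃ a ∈ A, ∃ v, w = a v - v}) q.2.2)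

theorem good_inf (hcomm : ∀ a ∈ A, ∀ b ∈ A, a * b = b * a) (hmax : IsMax A)
    {B₁ B₂ : Subgroup (V ≃ₗ[ZMod p] V)} (h₁ : Good A B₁) (h₂ : Good A B₂) :
    Good A (B₁ ⊓ B₂) := by
  have hn : B₁ ≤ Subgroup.normalizer (B₂ : Set (V ≃ₗ[ZMod p] V)) := fun x hx => by
    rw [Subgroup.mem_normalizer_iff]
    intro y
    constructor
    · intro hy
      rw [hcomm x (h₁.1 hx) y (h₂.1 hy), mul_inv_cancel_right]; exact hy
    · intro hy
      have h3 : x * (x * y * x⁻¹) = x * y * x⁻¹ * x := hcomm _ (h₁.1 hx) _ (h₂.1 hy)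
      rw [inv_mul_cancel_right] at h3
      have h4 : x * y * x⁻¹ = y := mul_left_cancel h3
      rwa [h4] at hy
  have hgrp := Cfsg.Agent.Lib.OffenderComp.Aux.card_sup_inf hn
  have hsub : fixS B₁ ⊔ fixS B₂ ≤ fixS (B₁ ⊓ B₂) :=
    sup_le (fun v hv g hg => hv g hg.1) (fun v hv g hg => hv g hg.2)
  have hinf : fixS B₁ ⊓ fixS B₂ ≤ fixS (B₁ ⊔ B₂) := fun v hv => by
    let T : Subgroup (V ≃ₗ[ZMod p] V) :=
      { carrier := {g | g v = v}
        mul_mem' := fun {g k} (hg : g v = v) (hk : k v = v) =>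
          show (g * k) v = v by rw [mul_app, hk, hg]
        one_mem' := show (1 : V ≃ₗ[ZMod p] V) v = v from rfl
        inv_mem' := fun {g} (hg : g v = v) => show g⁻¹ v = v from fix_inv hg }
    have : B₁ ⊔ B₂ ≤ T := sup_le hv.1 hv.2
    exact fun g hg => this hg
  have hinf' := Nat.card_mono (Set.toFinite _) hinf
  have hsub' := Nat.card_mono (Set.toFinite _) hsub
  have hsum := card_sub_sup (fixS B₁) (fixS B₂)
  have m1 := hmax _ (inf_le_left.trans h₁.1 : B₁ ⊓ B₂ ≤ A)
  have m2 := hmax _ (sup_le h₁.1 h₂.1)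
  set M := Nat.card A * Nat.card (fixS A)
  have hM : 0 < M := Nat.mul_pos Nat.card_pos Nat.card_pos
  set b := Nat.card ↥(B₁ ⊔ B₂)
  set c := Nat.card ↥(B₁ ⊓ B₂)
  set ci := Nat.card ↥(fixS (B₁ ⊓ B₂))
  set cs := Nat.card ↥(fixS (B₁ ⊔ B₂))
  set s := Nat.card ↥(fixS B₁ ⊔ fixS B₂)
  set i := Nat.card ↥(fixS B₁ ⊓ fixS B₂)
  have hb0 : 0 < b := Nat.card_pos
  have hi0 : 0 < i := Nat.card_pos
  have hc0 : 0 < c := Nat.card_pos
  have key : M * M = c * s * (b * i) := by
    calc M * M = (Nat.card B₁ * Nat.card (fixS B₁)) * (Nat.card B₂ * Nat.card (fixS B₂)) := by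
          rw [h₁.2.1, h₂.2.1]
      _ = (Nat.card B₁ * Nat.card B₂) * (Nat.card (fixS B₁) * Nat.card (fixS B₂)) := by ring
      _ = (b * c) * (s * i) := by rw [← hgrp, ← hsum]
      _ = c * s * (b * i) := by ring
  have hbi : b * i ≤ M := le_trans (Nat.mul_le_mul_left b hinf') m2
  have hcs : M ≤ c * s := by
    by_contra hlt
    have : c * s * (b * i) < M * M := by
      calc c * s * (b * i) ≤ c * s * M := Nat.mul_le_mul_left _ hbi
        _ < M * M := Nat.mul_lt_mul_of_pos_right (not_le.1 hlt) hM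
    omega
  have hcs2 : c * s ≤ c * ci := Nat.mul_le_mul_left c hsub'
  have hci : c * ci = M := le_antisymm m1 (hcs.trans hcs2)
  have hs : ci ≤ s := Nat.le_of_mul_le_mul_left (hci.le.trans hcs) hc0
  have heq : fixS B₁ ⊔ fixS B₂ = fixS (B₁ ⊓ B₂) :=
    SetLike.coe_injective (Set.eq_of_subset_of_ncard_le hsub
      (by rw [← Nat.card_coe_set_eq, ← Nat.card_coe_set_eq]; exact hs) (Set.toFinite _))
  exact ⟨inf_le_left.trans h₁.1, hci, by rw [← heq]; exact sup_le h₁.2.2 h₂.2.2⟩

/-- Timmesfeld replacement. -/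
theorem exists_replacement (hne : A ≠ ⊥) (hcomm : ∀ a ∈ A, ∀ b ∈ A, a * b = b * a)
    (hexp : ∀ a ∈ A, a ^ p = 1) (hmax : IsMax A) :
    ∃ B, B ≤ A ∧ B ≠ ⊥ ∧ (∀ a ∈ A, ∀ b ∈ B, ∀ v, b (a v - v) = a v - v) ∧
      Nat.card V ≤ Nat.card B * Nat.card (fixS B) := by
  classical
  let S : Set (Subgroup (V ≃ₗ[ZMod p] V)) := {B | Good A B}
  have hS : ∀ B₁ ∈ S, ∀ B₂ ∈ S, B₁ ⊓ B₂ ∈ S := fun _ h₁ _ h₂ => good_inf hcomm hmax h₁ h₂
  obtain ⟨B, hB⟩ := (Set.toFinite S).exists_minimal ⟨A, le_rfl, rfl, le_sup_right⟩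
  have hmin : ∀ B' ∈ S, B ≤ B' := fun B' hB' =>
    (hB.2 (hS B hB.1 B' hB') inf_le_left).trans inf_le_right
  obtain ⟨hBA, hBm, hBc⟩ := hB.1
  have hBfix : ∀ a ∈ A, ∀ b ∈ B, ∀ v, b (a v - v) = a v - v := fun a ha b hb v =>
    (hmin _ (good_centAt hcomm hmax v) hb).2 a ha
  refine ⟨B, hBA, ?_, hBfix, ?_⟩
  · intro hbot
    have htop : (⊤ : Submodule (ZMod p) V) ≤ commSet A := fun v _ => hBc (by
      intro g hg
      rw [hbot, Subgroup.mem_bot] at hg
      rw [hg]; rfl)
    have hfA : fixS A ≠ ⊤ := fun ht => hne (by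
      rw [eq_bot_iff]
      intro a ha
      rw [Subgroup.mem_bot]
      exact LinearEquiv.ext fun v => (ht ▸ Submodule.mem_top : v ∈ fixS A) a ha)
    obtain ⟨φ, hφ0, hφ⟩ := Submodule.exists_dual_map_eq_bot_of_lt_top (lt_top_iff_ne_top.2 hfA)
      inferInstance
    have hφA : ∀ v ∈ fixS A, φ v = 0 := fun v hv => by
      have : φ v ∈ Submodule.map φ (fixS A) := Submodule.mem_map_of_mem hv
      rwa [hφ, Submodule.mem_bot] at this
    have : ∀ l : List (V ≃ₗ[ZMod p] V), (∀ a ∈ l, a ∈ A) →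
        ∃ ψ : V →ₗ[ZMod p] ZMod p, ψ ≠ 0 ∧ (∀ v ∈ fixS A, ψ v = 0) ∧ ∀ a ∈ l, ∀ v, ψ (a v - v) = 0 := by
      intro l hl
      induction l with
      | nil => exact ⟨φ, hφ0, hφA, by simp⟩
      | cons a l ih =>
        obtain ⟨ψ, hψ0, hψA, hψl⟩ := ih fun c hc => hl c (List.mem_cons_of_mem _ hc)
        set N : V →ₗ[ZMod p] V := (a : V →ₗ[ZMod p] V) - 1 with hN
        have hNp : N ^ p = 0 := Aux.sub_one_pow (hexp a (hl a (by simp)))
        have hex : ∃ k, ψ ∘ₗ (N ^ k) = 0 := ⟨p, by rw [hNp, LinearMap.comp_zero]⟩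
        set k := Nat.find hex with hk
        have hk0 : ψ ∘ₗ (N ^ k) = 0 := Nat.find_spec hex
        rcases Nat.eq_zero_or_pos k with h0 | hpos
        · rw [h0, pow_zero] at hk0
          exact absurd hk0 (by simpa [Module.End.one_eq_id] using hψ0)
        refine ⟨ψ ∘ₗ (N ^ (k - 1)), fun h => ?_, fun v hv => ?_, ?_⟩
        · have := Nat.find_le (h := hex) h
          omega
        · have hNv : ∀ j, ψ ((N ^ j) v) = 0 := by
            intro j
            rcases j with _ | j
            · exact hψA v hv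
            · rw [pow_succ, Module.End.mul_apply]
              have : N v = 0 := by
                rw [hN, LinearMap.sub_apply, Module.End.one_apply]
                exact sub_eq_zero.2 (hv a (hl a (by simp)))
              rw [this, map_zero, map_zero]
          exact hNv _
        · intro c hc v
          rw [LinearMap.comp_apply]
          rcases List.mem_cons.1 hc with rfl | hc
          · have : (N ^ (k - 1)) (c v - v) = (N ^ k) v := by
              conv_rhs => rw [show k = k - 1 + 1 by omega, pow_succ, Module.End.mul_apply]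
              rfl
            rw [this]
            exact LinearMap.congr_fun hk0 v
          · have hcomm' : ∀ j, ∀ w, (N ^ j) (c w - w) = c ((N ^ j) w) - (N ^ j) w := by
              intro j
              induction j with
              | zero => intro w; rfl
              | succ j ihj =>
                intro w
                rw [pow_succ, Module.End.mul_apply, Module.End.mul_apply]
                have : N (c w - w) = c (N w) - N w := by
                  simp only [hN, LinearMap.sub_apply, Module.End.one_apply, LinearEquiv.coe_coe,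
                    map_sub]
                  rw [← mul_app a c, hcomm a (hl a (by simp)) c (hl c (List.mem_cons_of_mem _ hc)),
                    mul_app]
                rw [this, ihj]
            rw [hcomm']
            exact hψl c hc _
    cases nonempty_fintype A
    obtain ⟨ψ, hψ0, hψA, hψl⟩ := this ((Finset.univ : Finset A).toList.map Subtype.val)
      (fun a ha => by
        obtain ⟨⟨c, hc⟩, -, rfl⟩ := List.mem_map.1 ha
        exact hc)
    apply hψ0
    ext v
    have hv := htop (Submodule.mem_top (x := v))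
    have hker : commSet A ≤ LinearMap.ker ψ := by
      refine sup_le (Submodule.span_le.2 ?_) fun w hw => hψA w hw
      rintro w ⟨a, ha, u, rfl⟩
      exact hψl a (List.mem_map.2 ⟨⟨a, ha⟩, by simp, rfl⟩) u
    exact hker hv
  · rw [hBm]
    refine le_trans (le_of_eq ?_) (hmax ⊥ bot_le)
    have : fixS (⊥ : Subgroup (V ≃ₗ[ZMod p] V)) = ⊤ := eq_top_iff.2 fun v _ g hg => by
      rw [Subgroup.mem_bot] at hg; rw [hg]; rfl
    rw [this, Subgroup.card_bot, one_mul]
    exact (Nat.card_congr (Equiv.Set.univ V)).symm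

end Cfsg.Agent.Lib.OffenderComp
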