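import Cfsg.Agent.Lib.OffenderComp.Perfect
import Mathlib.LinearAlgebra.Span.Basic
import Mathlib.Data.Finite.Card
import Mathlib.Data.Set.Card

/-!
# A quadratic element normalising `K` leaves at most two commuting conjugates

Owner: helper54. If `b` normalises the quasisimple linear group `K` without centralising it and
fixes `[V,c]` for all `c` in an abelian group `A ∋ b`, then `K` has no three pairwise commuting
conjugates under `A`.
-/

namespace Cfsg.Agent.Lib.OffenderComp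

variable {R : Type*} [CommRing R] {V : Type*} [AddCommGroup V] [Module R V]
  {K : Subgroup (V ≃ₗ[R] V)} {b : V ≃ₗ[R] V}

/-- The conjugates `iKi⁻¹` and `jKj⁻¹` commute elementwise. -/
def Apart (K : Subgroup (V ≃ₗ[R] V)) (i j : V ≃ₗ[R] V) : Prop :=
  ∀ x ∈ K, ∀ y ∈ K, i * x * i⁻¹ * (j * y * j⁻¹) = j * y * j⁻¹ * (i * x * i⁻¹)

theorem Apart.symm {i j : V ≃ₗ[R] V} (h : Apart K i j) : Apart K j i :=
  fun x hx y hy => (h y hy x hx).symm

theorem Apart.app {i j x y : V ≃ₗ[R] V} (h : Apart K i j) (hx : x ∈ K) (hy : y ∈ K) (v : V) :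
    (i * x * i⁻¹) ((j * y * j⁻¹) v) = (j * y * j⁻¹) ((i * x * i⁻¹) v) := by
  rw [← mul_app, h x hx y hy, mul_app]

/-- `(i x i⁻¹)^b - i x i⁻¹`. -/
def twistD (b i x : V ≃ₗ[R] V) : V →ₗ[R] V :=
  (i * (b * x * b⁻¹) * i⁻¹ : V ≃ₗ[R] V).toLinearMap - (i * x * i⁻¹ : V ≃ₗ[R] V).toLinearMap

theorem twistD_apply (b i x : V ≃ₗ[R] V) (v : V) :
    twistD b i x v = (i * (b * x * b⁻¹) * i⁻¹) v - (i * x * i⁻¹) v := rfl

theorem twistD_one (b x : V ≃ₗ[R] V) (v : V) : twistD b 1 x v = (b * x * b⁻¹) v - x v := by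
  rw [twistD_apply, one_mul, inv_one, mul_one, one_mul, mul_one]

theorem twistD_eq (b i x : V ≃ₗ[R] V) (v : V) :
    twistD b i x v = i ((b * x * b⁻¹) (i⁻¹ v) - x (i⁻¹ v)) := by
  rw [twistD_apply, map_sub]; rfl

theorem Apart.twist {i j x y : V ≃ₗ[R] V} (h : Apart K i j) (hb : ∀ x ∈ K, b * x * b⁻¹ ∈ K)
    (hx : x ∈ K) (hy : y ∈ K) (v : V) :
    twistD b j x ((i * y * i⁻¹) v) = (i * y * i⁻¹) (twistD b j x v) := by
  rw [twistD_apply, twistD_apply, map_sub, h.app hy (hb x hx), h.app hy hx]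

theorem twist_comm {i j x y : V ≃ₗ[R] V} (h : Apart K i j) (hb : ∀ x ∈ K, b * x * b⁻¹ ∈ K)
    (hx : x ∈ K) (hy : y ∈ K) (v : V) :
    twistD b i x (twistD b j y v) = twistD b j y (twistD b i x v) := by
  rw [twistD_apply b j y, map_sub, h.symm.twist hb hx (hb y hy), h.symm.twist hb hx hy,
    twistD_apply b j y]

/-- A `K`-invariant submodule on which every `x^b - x` commutes with `K` is fixed by `K`. -/
theorem fixed_of_central_twist [Finite V] (hK : IsQS K) (hb : ∀ x ∈ K, b * x * b⁻¹ ∈ K)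
    (hbK : ∃ x ∈ K, b * x ≠ x * b) (U : Submodule R V) (hU : ∀ g ∈ K, ∀ v ∈ U, g v ∈ U)
    (h : ∀ x ∈ K, ∀ z ∈ K, ∀ v ∈ U, twistD b 1 x (z v) = z (twistD b 1 x v)) :
    ∀ v ∈ U, Fix K v := by
  suffices H : ∀ n, ∀ U : Submodule R V, Nat.card U ≤ n → (∀ g ∈ K, ∀ v ∈ U, g v ∈ U) →
      (∀ x ∈ K, ∀ z ∈ K, ∀ v ∈ U, twistD b 1 x (z v) = z (twistD b 1 x v)) →
      ∀ v ∈ U, Fix K v from H _ U le_rfl hU h
  intro n
  induction n with
  | zero =>
    intro U hn _ _
    have : 0 < Nat.card U := Nat.card_pos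
    omega
  | succ n ih =>
    intro U hn hU h
    have hDU : ∀ x ∈ K, ∀ v ∈ U, twistD b 1 x v ∈ U := fun x hx v hv => by
      rw [twistD_one]; exact sub_mem (hU _ (hb x hx) v hv) (hU _ hx v hv)
    by_cases hinj : ∃ x ∈ K, ∀ v ∈ U, twistD b 1 x v = 0 → v = 0
    · -- some twist is injective on `U`: then `K` is commutative on `U`
      obtain ⟨x, hx, hxi⟩ := hinj
      set σ : (V ≃ₗ[R] V) → (V ≃ₗ[R] V) := fun y => b * y * b⁻¹ with hσ
      have hσmul : ∀ y z, σ (y * z) = σ y * σ z := fun y z => by rw [hσ]; group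
      have hs : ∀ y v, σ y v = twistD b 1 y v + y v := fun y v => by
        rw [twistD_one]; abel
      have hzw : ∀ y ∈ K, ∀ z ∈ K, ∀ v ∈ U, σ y (σ z v) - σ z (σ y v) = y (z v) - z (y v) := by
        intro y hy z hz v hv
        have e1 : σ y (σ z v) = twistD b 1 y (σ z v) + y (σ z v) := hs _ _
        have e2 : twistD b 1 y (σ z v) = σ z (twistD b 1 y v) := h y hy _ (hb z hz) v hv
        have e3 : y (σ z v) = y (twistD b 1 z v) + y (z v) := by rw [hs, map_add]
        have e4 : σ z (σ y v) = σ z (twistD b 1 y v) + σ z (y v) := by rw [hs y v, map_add]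
        have e5 : σ z (y v) = twistD b 1 z (y v) + z (y v) := hs _ _
        have e6 : twistD b 1 z (y v) = y (twistD b 1 z v) := h z hz y hy v hv
        rw [e1, e2, e3, e4, e5, e6]; abel
      have hcent : ∀ u ∈ K, ∀ v ∈ U, x (u v) = u (x v) := by
        intro u hu v hv
        set w := x (u v) - u (x v) with hw
        have hwU : w ∈ U := sub_mem (hU x hx _ (hU u hu v hv)) (hU u hu _ (hU x hx v hv))
        have key : σ x (σ (x * u) v) - σ (x * u) (σ x v) = x ((x * u) v) - (x * u) (x v) :=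
          hzw x hx _ (mul_mem hx hu) v hv
        rw [hσmul, mul_app (σ x) (σ u), mul_app (σ x) (σ u), mul_app x u, mul_app x u,
          ← map_sub (σ x), ← map_sub x, hzw x hx u hu v hv] at key
        refine sub_eq_zero.1 (hxi w hwU ?_)
        rw [twistD_one]
        exact sub_eq_zero.2 key
      intro v hv
      refine fixed_of_comm_mod hK.perfect fun g hg k hk => ?_
      have hcg : ∀ u ∈ K, ∀ v ∈ U, g (u v) = u (g v) := by
        intro u hu v hv
        set w := g (u v) - u (g v) with hw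
        have hwU : w ∈ U := sub_mem (hU g hg _ (hU u hu v hv)) (hU u hu _ (hU g hg v hv))
        refine sub_eq_zero.1 (hxi w hwU ?_)
        have hxc : ∀ w ∈ U, σ x (u w) = u (σ x w) := fun w hw => by
          rw [hs, hs, map_add, h x hx u hu w hw, hcent u hu w hw]
        -- `twistD (x g) = σ x ∘ twistD g + twistD x ∘ g`
        have hd : ∀ w : V, twistD b 1 (x * g) w = σ x (twistD b 1 g w) + twistD b 1 x (g w) := by
          intro w
          rw [twistD_one, twistD_one, twistD_one, map_sub, ← mul_app (σ x), mul_app x g]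
          have : b * (x * g) * b⁻¹ = σ x * (b * g * b⁻¹) := by rw [hσ]; group
          rw [this]
          abel
        have e1 := h (x * g) (mul_mem hx hg) u hu v hv
        rw [hd, hd, map_add, h g hg u hu v hv, hxc _ (hDU g hg v hv)] at e1
        have e2 := add_left_cancel e1
        rw [map_sub, e2, h x hx u hu (g v) (hU g hg v hv), sub_self]
      rw [hcg k hk v hv, sub_self]
      exact Fix.zero
    · push Not at hinj
      refine fixed_of_twist hK hb hbK (U : Set V) hU fun x hx v hv => ?_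
      obtain ⟨v₀, hv₀, hv₀0, hv₀ne⟩ := hinj x hx
      set U' : Submodule R V := U.map (twistD b 1 x) with hU'
      have hU'U : U' ≤ U := by
        rintro _ ⟨w, hw, rfl⟩; exact hDU x hx w hw
      have hlt : U' < U := by
        refine lt_of_le_of_ne hU'U fun heq => hv₀ne ?_
        let f : U → U := fun w => ⟨twistD b 1 x w, hDU x hx w w.2⟩
        have hsurj : Function.Surjective f := fun w => by
          obtain ⟨u, hu, huw⟩ := (heq.ge w.2 : (w : V) ∈ U')
          exact ⟨⟨u, hu⟩, Subtype.ext huw⟩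
        have := (Finite.injective_iff_surjective.2 hsurj) (a₁ := ⟨v₀, hv₀⟩) (a₂ := 0)
          (Subtype.ext (by simp [f, hv₀0]))
        exact congrArg Subtype.val this
      have hcard : Nat.card U' ≤ n := by
        have : Nat.card U' < Nat.card U := by
          rw [← SetLike.coe_sort_coe, ← SetLike.coe_sort_coe, Nat.card_coe_set_eq,
            Nat.card_coe_set_eq]
          exact Set.ncard_lt_ncard hlt (Set.toFinite _)
        omega
      have hinv : ∀ g ∈ K, ∀ w ∈ U', g w ∈ U' := by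
        rintro g hg _ ⟨w, hw, rfl⟩
        exact ⟨g w, hU g hg w hw, h x hx g hg w hw⟩
      have := ih U' hcard hinv (fun y hy z hz w hw => h y hy z hz w (hU'U hw))
        (twistD b 1 x v) ⟨v, hv, rfl⟩
      rwa [twistD_one] at this

/-- Three pairwise commuting conjugates are impossible. -/
theorem false_of_three [Finite V] (hK : IsQS K) {A : Subgroup (V ≃ₗ[R] V)}
    (hcomm : ∀ a ∈ A, ∀ c ∈ A, a * c = c * a) (hbA : b ∈ A)
    (hb : ∀ x ∈ K, b * x * b⁻¹ ∈ K) (hbK : ∃ x ∈ K, b * x ≠ x * b)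
    (hfix : ∀ c ∈ A, ∀ v, b (c v - v) = c v - v) {a a' : V ≃ₗ[R] V} (ha : a ∈ A) (ha' : a' ∈ A)
    (h1a : Apart K 1 a) (h1a' : Apart K 1 a') (haa' : Apart K a a') : False := by
  have hcM : ∀ c ∈ A, ∀ v, c (b v - v) = b v - v := by
    intro c hc v
    have := hfix c hc v
    rw [map_sub, ← mul_app b c, hcomm b hbA c hc, mul_app] at this
    rw [map_sub, sub_eq_sub_iff_sub_eq_sub]
    exact this
  have hbb : ∀ v, b (b v - v) = b v - v := hfix b hbA
  have hinvA : ∀ c ∈ A, ∀ v, c⁻¹ (b v - v) = b v - v := fun c hc v => fix_inv (hcM c hc v)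
  -- value on `[V,b]` does not depend on the conjugate
  have F1 : ∀ i ∈ A, ∀ x ∈ K, ∀ v, twistD b i x (b v - v) =
      b (x (b v - v)) - x (b v - v) := by
    intro i hi x _ v
    have e1 : (b * x * b⁻¹) (b v - v) - x (b v - v) = b (x (b v - v)) - x (b v - v) := by
      rw [mul_app, mul_app, fix_inv (hbb v)]
    rw [twistD_eq, hinvA i hi, e1, hcM i hi]
  have hD : ∀ k ∈ A, ∀ y ∈ K, ∀ v, twistD b k y v =
      (b ((k * y * k⁻¹) v) - (k * y * k⁻¹) v) - (k * (b * y * b⁻¹) * k⁻¹) (b v - v) := by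
    intro k hk y _ v
    have e : k * (b * y * b⁻¹) * k⁻¹ * b = b * (k * y * k⁻¹) := by
      have c1 : k * b = b * k := hcomm k hk b hbA
      have c2 : b⁻¹ * k⁻¹ * b = k⁻¹ := by
        rw [mul_assoc, hcomm k⁻¹ (inv_mem hk) b hbA, inv_mul_cancel_left]
      calc k * (b * y * b⁻¹) * k⁻¹ * b = (k * b) * y * (b⁻¹ * k⁻¹ * b) := by group
        _ = _ := by rw [c2, c1]; group
    rw [map_sub, ← mul_app (k * (b * y * b⁻¹) * k⁻¹) b, e, mul_app b (k * y * k⁻¹), twistD_apply]
    abel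
  have F2 : ∀ i ∈ A, ∀ j ∈ A, ∀ k ∈ A, Apart K i k → Apart K j k →
      ∀ x ∈ K, ∀ y ∈ K, ∀ v, twistD b i x (twistD b k y v) = twistD b j x (twistD b k y v) := by
    intro i hi j hj k hk hik hjk x hx y hy v
    rw [hD k hk y hy v, map_sub (twistD b i x) (b _ - _), map_sub (twistD b j x) (b _ - _),
      F1 i hi x hx, F1 j hj x hx,
      hik.symm.twist hb hx (hb y hy), hjk.symm.twist hb hx (hb y hy), F1 i hi x hx, F1 j hj x hx]
  -- the differences of twists are fixed by the third conjugate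
  have F3 : ∀ i ∈ A, ∀ j ∈ A, ∀ k ∈ A, Apart K i j → Apart K i k → Apart K j k →
      ∀ w ∈ K, ∀ y ∈ K, ∀ v, twistD b j y ((i * w * i⁻¹) v - v) =
        twistD b k y ((i * w * i⁻¹) v - v) := by
    intro i hi j hj k hk hij hik hjk w hw y hy v
    have hU : ∀ g ∈ K, ∀ u ∈ {u : V | ∃ m, u = i⁻¹ (twistD b j y m - twistD b k y m)},
        g u ∈ {u : V | ∃ m, u = i⁻¹ (twistD b j y m - twistD b k y m)} := by
      rintro g hg _ ⟨m, rfl⟩
      refine ⟨(i * g * i⁻¹) m, ?_⟩
      rw [hij.twist hb hy hg, hik.twist hb hy hg, ← map_sub (i * g * i⁻¹), mul_app, mul_app,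
        inv_app_app]
    have hf := fixed_of_twist hK hb hbK _ hU (fun x hx u hu => by
      obtain ⟨m, rfl⟩ := hu
      have h0 : twistD b i x (twistD b j y m - twistD b k y m) = 0 := by
        rw [map_sub, twist_comm hij hb hx hy, twist_comm hik hb hx hy,
          F2 j hj k hk i hi hij.symm hik.symm y hy x hx m, sub_self]
      rw [twistD_eq] at h0
      have := congrArg (fun z => i⁻¹ z) h0
      simp only [inv_app_app, map_zero] at this
      rw [this]; exact Fix.zero) _ ⟨v, rfl⟩ w hw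
    have h2 : (i * w * i⁻¹) (twistD b j y v - twistD b k y v) =
        twistD b j y v - twistD b k y v := by
      rw [mul_app, mul_app, hf, app_inv_app]
    rw [map_sub, map_sub]
    rw [map_sub, ← hij.twist hb hy hw, ← hik.twist hb hy hw] at h2
    rw [sub_eq_sub_iff_sub_eq_sub]
    exact h2
  -- the third conjugate fixes double commutators
  have F4 : ∀ i ∈ A, ∀ j ∈ A, ∀ k ∈ A, Apart K i j → Apart K i k → Apart K j k →
      ∀ w ∈ K, ∀ u ∈ K, ∀ v, ∀ z ∈ K, (k * z * k⁻¹)
          ((j * u * j⁻¹) ((i * w * i⁻¹) v - v) - ((i * w * i⁻¹) v - v)) =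
        (j * u * j⁻¹) ((i * w * i⁻¹) v - v) - ((i * w * i⁻¹) v - v) := by
    intro i hi j hj k hk hij hik hjk w hw u hu v z hz
    set S : Set V := {s | ∃ w ∈ K, ∃ u ∈ K, ∃ v,
      s = k⁻¹ ((j * u * j⁻¹) ((i * w * i⁻¹) v - v) - ((i * w * i⁻¹) v - v))} with hS
    have hSinv : ∀ g ∈ K, ∀ s ∈ S, g s ∈ S := by
      rintro g hg _ ⟨w, hw, u, hu, v, rfl⟩
      refine ⟨w, hw, u, hu, (k * g * k⁻¹) v, ?_⟩
      rw [hik.app hw hg, ← map_sub (k * g * k⁻¹), hjk.app hu hg, ← map_sub (k * g * k⁻¹),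
        mul_app (k * g) k⁻¹, mul_app k g, inv_app_app]
    have hUinv : ∀ g ∈ K, ∀ s ∈ Submodule.span R S, g s ∈ Submodule.span R S := by
      intro g hg s hs
      induction hs using Submodule.span_induction with
      | mem x hx => exact Submodule.subset_span (hSinv g hg x hx)
      | zero => rw [map_zero]; exact zero_mem _
      | add x y _ _ hx hy => rw [map_add]; exact add_mem hx hy
      | smul c x _ hx => rw [map_smul]; exact Submodule.smul_mem _ c hx
    have hDik : ∀ x ∈ K, ∀ s ∈ S, twistD b k x (k s) = twistD b i x (k s) := by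
      rintro x hx _ ⟨w, hw, u, hu, v, rfl⟩
      rw [app_inv_app]
      exact F3 j hj k hk i hi hjk hij.symm hik.symm u hu x hx _
    have hcen : ∀ x ∈ K, ∀ g ∈ K, ∀ s ∈ Submodule.span R S,
        twistD b 1 x (g s) = g (twistD b 1 x s) := by
      intro x hx g hg s hs
      induction hs using Submodule.span_induction with
      | mem s hs =>
        have e1 : ∀ t, k (twistD b 1 x t) = twistD b k x (k t) := fun t => by
          rw [twistD_eq b k, inv_app_app, twistD_one]
        apply k.injective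
        rw [e1, hDik x hx _ (hSinv g hg s hs)]
        have e2 : k (g s) = (k * g * k⁻¹) (k s) := by rw [mul_app, mul_app, inv_app_app]
        rw [e2, hik.symm.twist hb hx hg, ← hDik x hx s hs, mul_app, mul_app, ← e1, inv_app_app]
      | zero => simp
      | add x y _ _ hx hy => rw [map_add, map_add, hx, hy, map_add, map_add]
      | smul c x _ hx => rw [map_smul, map_smul, hx, map_smul, map_smul]
    have := fixed_of_central_twist hK hb hbK _ hUinv hcen _
      (Submodule.subset_span ⟨w, hw, u, hu, v, rfl⟩) z hz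
    rw [mul_app, mul_app, this, app_inv_app]
  have h11 : (1 : V ≃ₗ[R] V) ∈ A := one_mem A
  -- `a K a⁻¹` fixes `[V,K]`
  have F5 : ∀ w ∈ K, ∀ v, Fix K (a⁻¹ (w v - v)) := by
    intro w hw v
    refine fixed_of_sub_fixed hK.perfect fun u hu => ?_
    set S : Set V := {s | ∃ w ∈ K, ∃ u ∈ K, ∃ v, s = u (a⁻¹ (w v - v)) - a⁻¹ (w v - v)} with hS
    have hwsw : ∀ w ∈ K, ∀ g ∈ K, ∀ v, g (a⁻¹ (w v - v)) =
        a⁻¹ (w ((a * g * a⁻¹) v) - (a * g * a⁻¹) v) := by
      intro w hw g hg v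
      have h2 : w ((a * g * a⁻¹) v) = (a * g * a⁻¹) (w v) := by
        have := h1a.app hw hg v
        rwa [one_mul, inv_one, mul_one] at this
      rw [h2, ← map_sub (a * g * a⁻¹), mul_app, mul_app, inv_app_app]
    have hSinv : ∀ g ∈ K, ∀ s ∈ S, g s ∈ S := by
      rintro g hg _ ⟨w, hw, u, hu, v, rfl⟩
      refine ⟨w, hw, g * u * g⁻¹, mul_mem (mul_mem hg hu) (inv_mem hg), (a * g * a⁻¹) v, ?_⟩
      rw [← hwsw w hw g hg v, map_sub, mul_app, mul_app, inv_app_app]
    refine fixed_of_twist hK hb hbK S hSinv (fun x hx s hs => ?_) _ ⟨w, hw, u, hu, v, rfl⟩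
    obtain ⟨w, hw, u, hu, v, rfl⟩ := hs
    set m := w v - v with hm
    have em : m = ((1 : V ≃ₗ[R] V) * w * 1⁻¹) v - v := by rw [one_mul, inv_one, mul_one]
    have es : a (u (a⁻¹ m) - a⁻¹ m) = (a * u * a⁻¹) m - m := by
      rw [map_sub, app_inv_app, mul_app, mul_app]
    have e0 : twistD b a x ((a * u * a⁻¹) m - m) = twistD b a' x ((a * u * a⁻¹) m - m) := by
      have hz : (a * u * a⁻¹) m - m = ((1 : V ≃ₗ[R] V) * w * 1⁻¹) ((a * u * a⁻¹) v) -
          (a * u * a⁻¹) v - (((1 : V ≃ₗ[R] V) * w * 1⁻¹) v - v) := by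
        rw [h1a.app hw hu, em, map_sub]
      rw [hz, map_sub (twistD b a x) (_ - _) (_ - _), map_sub (twistD b a' x) (_ - _) (_ - _),
        F3 1 h11 a ha a' ha' h1a h1a' haa' w hw x hx,
        F3 1 h11 a ha a' ha' h1a h1a' haa' w hw x hx]
    have e1 : twistD b a' x ((a * u * a⁻¹) m - m) = 0 := by
      rw [twistD_apply, em, F4 1 h11 a ha a' ha' h1a h1a' haa' w hw u hu v _ (hb x hx),
        F4 1 h11 a ha a' ha' h1a h1a' haa' w hw u hu v x hx, sub_self]
    rw [e1, ← es, twistD_eq, inv_app_app] at e0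
    have h3 := congrArg (fun z => a⁻¹ z) e0
    simp only [inv_app_app, map_zero] at h3
    rw [h3]; exact Fix.zero
  -- conclusion
  set S : Set V := {s | ∃ w ∈ K, ∃ v, s = w v - v} with hS
  have hSinv : ∀ g ∈ K, ∀ s ∈ S, g s ∈ S := by
    rintro g hg _ ⟨w, hw, v, rfl⟩
    exact ⟨g * w * g⁻¹, mul_mem (mul_mem hg hw) (inv_mem hg), g v, by
      rw [map_sub, mul_app, mul_app, inv_app_app]⟩
  have hMS : ∀ s ∈ S, Fix K (b s - s) := by
    rintro _ ⟨w, hw, v, rfl⟩
    have e : b (w v - v) = (b * w * b⁻¹) (b v) - b v := by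
      rw [map_sub, mul_app, mul_app, inv_app_app]
    have h2 : Fix K (a⁻¹ (b (w v - v) - (w v - v))) := by
      rw [map_sub, e]; exact (F5 _ (hb w hw) _).sub (F5 w hw v)
    rwa [hinvA a ha] at h2
  have hfS : ∀ s ∈ S, Fix K s := fixed_of_twist hK hb hbK S hSinv fun x hx s hs => by
    have h1 := hMS (x s) (hSinv x hx s hs)
    have h2 := (hMS s hs).app (hb x hx)
    have e : (b * x * b⁻¹) s - x s = (b (x s) - x s) - (b * x * b⁻¹) (b s - s) := by
      simp only [map_sub, mul_app, inv_app_app]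
      abel
    rw [e]; exact h1.sub h2
  have hall : ∀ v, Fix K v := fun v => fixed_of_sub_fixed hK.perfect fun w hw => hfS _ ⟨w, hw, v, rfl⟩
  exact hK.ne_bot (eq_bot_iff.2 fun g hg => Subgroup.mem_bot.2 (LinearEquiv.ext fun v => hall v g hg))

end Cfsg.Agent.Lib.OffenderComp
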