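import Cfsg.Agent.Lib.OffenderComp.Pair
import Mathlib.Algebra.Module.ZMod
import Mathlib.LinearAlgebra.Span.Basic
import Mathlib.RingTheory.Adjoin.Basic
import Mathlib.Algebra.CharP.Two
import Mathlib.Tactic.Module

/-!
# Traces `g + g⁻¹` on an exchanged pair of conjugates (characteristic 2)

Owner: helper54. `R₀` is a nonzero submodule of `[V,a]`, invariant and irreducible under all
`tr g = g + g⁻¹`; `W R₀ = span (K R₀)`. On `W R₀` the traces are central and every `g ∈ K`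
satisfies `g² + (tr g) g + 1 = 0`.
-/

namespace Cfsg.Agent.Lib.OffenderComp

variable {V : Type*} [AddCommGroup V] [Module (ZMod 2) V]
  {K : Subgroup (V ≃ₗ[ZMod 2] V)} {a b : V ≃ₗ[ZMod 2] V} {R₀ : Submodule (ZMod 2) V}

theorem two_add (v : V) : v + v = 0 := by
  rw [← two_smul (ZMod 2) v, show (2 : ZMod 2) = 0 from rfl, zero_smul]

theorem two_neg (v : V) : -v = v := neg_eq_of_add_eq_zero_right (two_add v)

theorem two_sub (v w : V) : v - w = v + w := by rw [sub_eq_add_neg, two_neg]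

/-- `g + g⁻¹`. -/
def tr (g : V ≃ₗ[ZMod 2] V) : V →ₗ[ZMod 2] V := g.toLinearMap + (g⁻¹ : V ≃ₗ[ZMod 2] V).toLinearMap

theorem tr_apply (g : V ≃ₗ[ZMod 2] V) (v : V) : tr g v = g v + g⁻¹ v := rfl

theorem tr_inv (g : V ≃ₗ[ZMod 2] V) : tr g⁻¹ = tr g := LinearMap.ext fun v => by
  rw [tr_apply, tr_apply, inv_inv, add_comm]

theorem tr_eq_zero_of_fix {g : V ≃ₗ[ZMod 2] V} {v : V} (h : g v = v) : tr g v = 0 := by
  rw [tr_apply, h, fix_inv h, two_add]

theorem inv_app_eq_tr (g : V ≃ₗ[ZMod 2] V) (v : V) : g⁻¹ v = tr g v + g v := by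
  rw [tr_apply, add_comm (g v), add_assoc, two_add, add_zero]

/-- the basic setting -/
structure Slot (K : Subgroup (V ≃ₗ[ZMod 2] V)) (a : V ≃ₗ[ZMod 2] V) (R₀ : Submodule (ZMod 2) V) :
    Prop where
  apart : Apart K 1 a
  conj : ∀ x ∈ K, ∀ r ∈ R₀, (a * x * a⁻¹) r = x⁻¹ r
  tmem : ∀ g ∈ K, ∀ r ∈ R₀, tr g r ∈ R₀
  irr : ∀ U ≤ R₀, (∀ g ∈ K, ∀ r ∈ U, tr g r ∈ U) → U = ⊥ ∨ U = R₀
  nonzero : ∃ g ∈ K, ∃ r ∈ R₀, tr g r ≠ 0

/-- `span (K R₀)`. -/
def kspan (K : Subgroup (V ≃ₗ[ZMod 2] V)) (R₀ : Submodule (ZMod 2) V) : Submodule (ZMod 2) V :=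
  Submodule.span (ZMod 2) {w | ∃ g ∈ K, ∃ r ∈ R₀, w = g r}

theorem mem_kspan {g : V ≃ₗ[ZMod 2] V} {r : V} (hg : g ∈ K) (hr : r ∈ R₀) : g r ∈ kspan K R₀ :=
  Submodule.subset_span ⟨g, hg, r, hr, rfl⟩

theorem le_kspan : R₀ ≤ kspan K R₀ := fun _ hr => mem_kspan (one_mem K) hr

theorem eqOn_kspan {P Q : V →ₗ[ZMod 2] V} (h : ∀ g ∈ K, ∀ r ∈ R₀, P (g r) = Q (g r)) :
    ∀ w ∈ kspan K R₀, P w = Q w := by
  intro w hw
  induction hw using Submodule.span_induction with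
  | mem s hs => obtain ⟨g, hg, r, hr, rfl⟩ := hs; exact h g hg r hr
  | zero => simp
  | add x y _ _ hx hy => rw [map_add, map_add, hx, hy]
  | smul c x _ hx => rw [map_smul, map_smul, hx]

theorem kspan_inv {g : V ≃ₗ[ZMod 2] V} (hg : g ∈ K) {w : V} (hw : w ∈ kspan K R₀) :
    g w ∈ kspan K R₀ := by
  induction hw using Submodule.span_induction with
  | mem s hs => obtain ⟨k, hk, r, hr, rfl⟩ := hs; rw [← mul_app]; exact mem_kspan (mul_mem hg hk) hr
  | zero => simp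
  | add x y _ _ hx hy => rw [map_add]; exact add_mem hx hy
  | smul c x _ hx => rw [map_smul]; exact Submodule.smul_mem _ c hx

theorem kspan_tr {g : V ≃ₗ[ZMod 2] V} (hg : g ∈ K) {w : V} (hw : w ∈ kspan K R₀) :
    tr g w ∈ kspan K R₀ := add_mem (kspan_inv hg hw) (kspan_inv (inv_mem hg) hw)

theorem sq_app (g : V ≃ₗ[ZMod 2] V) (w : V) : g (g w) = tr g (g w) + w := by
  rw [tr_apply, inv_app_app, add_assoc, two_add, add_zero]

theorem tr_sq_app (g : V ≃ₗ[ZMod 2] V) (w : V) : tr (g * g) w = tr g (tr g w) := by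
  have e : (g * g)⁻¹ w = g⁻¹ (g⁻¹ w) := by rw [mul_inv_rev, mul_app]
  have h2 := two_add w
  simp only [tr_apply, mul_app, e, map_add, app_inv_app, inv_app_app]
  calc g (g w) + g⁻¹ (g⁻¹ w) = g (g w) + g⁻¹ (g⁻¹ w) + (w + w) := by rw [h2, add_zero]
    _ = g (g w) + w + (w + g⁻¹ (g⁻¹ w)) := by abel

variable (S : Slot K a R₀)
include S

/-- Maps commuting with the conjugate `aKa⁻¹` are determined by their values on `R₀`. -/
theorem Slot.ext {P Q : V →ₗ[ZMod 2] V}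
    (hP : ∀ g ∈ K, ∀ v, P ((a * g * a⁻¹) v) = (a * g * a⁻¹) (P v))
    (hQ : ∀ g ∈ K, ∀ v, Q ((a * g * a⁻¹) v) = (a * g * a⁻¹) (Q v))
    (h : ∀ r ∈ R₀, P r = Q r) : ∀ w ∈ kspan K R₀, P w = Q w :=
  eqOn_kspan fun g hg r hr => by
    have e : g r = (a * g⁻¹ * a⁻¹) r := by rw [S.conj _ (inv_mem hg) r hr, inv_inv]
    rw [e, hP _ (inv_mem hg), hQ _ (inv_mem hg), h r hr]

theorem Slot.commute {g h : V ≃ₗ[ZMod 2] V} (hg : g ∈ K) (hh : h ∈ K) (v : V) :
    g ((a * h * a⁻¹) v) = (a * h * a⁻¹) (g v) := S.apart.one_app hg hh v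

theorem Slot.tr_commute {g h : V ≃ₗ[ZMod 2] V} (hg : g ∈ K) (hh : h ∈ K) (v : V) :
    tr g ((a * h * a⁻¹) v) = (a * h * a⁻¹) (tr g v) := by
  rw [tr_apply, tr_apply, map_add, S.commute hg hh, S.commute (inv_mem hg) hh]

/-- the traces are central on `kspan K R₀` -/
theorem Slot.tr_central {g h : V ≃ₗ[ZMod 2] V} (hg : g ∈ K) (hh : h ∈ K) {w : V}
    (hw : w ∈ kspan K R₀) : tr g (h w) = h (tr g w) := by
  have base : ∀ h ∈ K, ∀ r ∈ R₀, tr g (h r) = h (tr g r) := fun h hh r hr => by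
    have e : h r = (a * h⁻¹ * a⁻¹) r := by rw [S.conj _ (inv_mem hh) r hr, inv_inv]
    rw [e, S.tr_commute hg (inv_mem hh), S.conj _ (inv_mem hh) _ (S.tmem g hg r hr), inv_inv]
  have := eqOn_kspan (P := (tr g).comp h.toLinearMap) (Q := h.toLinearMap.comp (tr g))
    (fun k hk r hr => by
      simp only [LinearMap.comp_apply, LinearEquiv.coe_coe]
      rw [← mul_app h k, base _ (mul_mem hh hk) r hr, base k hk r hr, mul_app]) w hw
  exact this

theorem Slot.polar {g h : V ≃ₗ[ZMod 2] V} (hg : g ∈ K) (hh : h ∈ K) {w : V}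
    (hw : w ∈ kspan K R₀) :
    g (h w) + h (g w) =
      tr g (h w) + tr h (g w) + tr (g * h) w + tr g (tr h w) := by
  have e : (g * h)⁻¹ w = h⁻¹ (g⁻¹ w) := by rw [mul_inv_rev, mul_app]
  have e1 : tr (g * h) w = g (h w) + h⁻¹ (g⁻¹ w) := by rw [tr_apply, e, mul_app]
  have e2 : h⁻¹ (g⁻¹ w) = tr g (tr h w) + tr g (h w) + tr h (g w) + h (g w) := by
    rw [inv_app_eq_tr g w, inv_app_eq_tr h, map_add (tr h), map_add h,
      ← S.tr_central hg hh hw]
    have : tr h (tr g w) = tr g (tr h w) := by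
      rw [tr_apply g, tr_apply g, map_add, S.tr_central hh hg hw,
        S.tr_central hh (inv_mem hg) hw]
    rw [this]
    abel
  rw [e1, e2]
  have h2 : ∀ x : V, x + x = 0 := two_add
  calc g (h w) + h (g w) = g (h w) + h (g w) + (tr g (h w) + tr g (h w)) + (tr h (g w) + tr h (g w))
        + (tr g (tr h w) + tr g (tr h w)) := by rw [h2, h2, h2, add_zero, add_zero, add_zero]
    _ = _ := by abel

/-- The algebra generated by the traces. -/
def Slot.scal (_S : Slot K a R₀) : Subalgebra (ZMod 2) (Module.End (ZMod 2) V) :=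
  Algebra.adjoin (ZMod 2) {t | ∃ g ∈ K, t = tr g}

theorem Slot.scal_tr {g : V ≃ₗ[ZMod 2] V} (hg : g ∈ K) : tr g ∈ S.scal :=
  Algebra.subset_adjoin ⟨g, hg, rfl⟩

theorem Slot.scal_mem {l : Module.End (ZMod 2) V} (hl : l ∈ S.scal) :
    (∀ r ∈ R₀, l r ∈ R₀) ∧ (∀ w ∈ kspan K R₀, l w ∈ kspan K R₀) ∧
      (∀ h ∈ K, ∀ w ∈ kspan K R₀, l (h w) = h (l w)) := by
  induction hl using Algebra.adjoin_induction with
  | mem t ht =>
    obtain ⟨g, hg, rfl⟩ := ht
    exact ⟨S.tmem g hg, fun w hw => kspan_tr hg hw, fun h hh w hw => S.tr_central hg hh hw⟩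
  | algebraMap c =>
    refine ⟨fun r hr => ?_, fun w hw => ?_, fun h hh w hw => ?_⟩ <;>
      simp only [Module.algebraMap_end_apply]
    · exact R₀.smul_mem c hr
    · exact (kspan K R₀).smul_mem c hw
    · rw [map_smul]
  | add x y _ _ hx hy =>
    refine ⟨fun r hr => add_mem (hx.1 r hr) (hy.1 r hr), fun w hw => add_mem (hx.2.1 w hw) (hy.2.1 w hw),
      fun h hh w hw => ?_⟩
    simp only [LinearMap.add_apply, map_add, hx.2.2 h hh w hw, hy.2.2 h hh w hw]
  | mul x y _ _ hx hy =>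
    refine ⟨fun r hr => hx.1 _ (hy.1 r hr), fun w hw => hx.2.1 _ (hy.2.1 w hw), fun h hh w hw => ?_⟩
    simp only [Module.End.mul_apply, hy.2.2 h hh w hw, hx.2.2 h hh _ (hy.2.1 w hw)]

theorem Slot.scal_tr_comm {l : Module.End (ZMod 2) V} (hl : l ∈ S.scal) {g : V ≃ₗ[ZMod 2] V}
    (hg : g ∈ K) {w : V} (hw : w ∈ kspan K R₀) : l (tr g w) = tr g (l w) := by
  rw [tr_apply, tr_apply, map_add, (S.scal_mem hl).2.2 g hg w hw,
    (S.scal_mem hl).2.2 _ (inv_mem hg) w hw]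

theorem Slot.scal_comm {l m : Module.End (ZMod 2) V} (hl : l ∈ S.scal) (hm : m ∈ S.scal) :
    ∀ w ∈ kspan K R₀, l (m w) = m (l w) := by
  induction hm using Algebra.adjoin_induction with
  | mem t ht => obtain ⟨g, hg, rfl⟩ := ht; exact fun w hw => S.scal_tr_comm hl hg hw
  | algebraMap c => intro w _; simp only [Module.algebraMap_end_apply, map_smul]
  | add x y _ _ hx hy =>
    intro w hw; simp only [LinearMap.add_apply, map_add, hx w hw, hy w hw]
  | mul x y _ hym hx hy =>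
    intro w hw
    simp only [Module.End.mul_apply, hx _ ((S.scal_mem hym).2.1 w hw), hy w hw]

theorem Slot.scal_commute {l : Module.End (ZMod 2) V} (hl : l ∈ S.scal) :
    ∀ g ∈ K, ∀ v, l ((a * g * a⁻¹) v) = (a * g * a⁻¹) (l v) := by
  induction hl using Algebra.adjoin_induction with
  | mem t ht => obtain ⟨h, hh, rfl⟩ := ht; exact fun g hg v => S.tr_commute hh hg v
  | algebraMap c => intro g _ v; simp only [Module.algebraMap_end_apply, map_smul]
  | add x y _ _ hx hy =>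
    intro g hg v; simp only [LinearMap.add_apply, map_add, hx g hg v, hy g hg v]
  | mul x y _ _ hx hy => intro g hg v; simp only [Module.End.mul_apply, hy g hg v, hx g hg]

/-- A scalar is zero on `kspan K R₀` or injective there. -/
theorem Slot.scal_zero_or_inj [Finite V] {l : Module.End (ZMod 2) V} (hl : l ∈ S.scal) :
    (∀ w ∈ kspan K R₀, l w = 0) ∨
      ((∀ w ∈ kspan K R₀, l w = 0 → w = 0) ∧ ∀ r ∈ R₀, ∃ r' ∈ R₀, l r' = r) := by
  rcases S.irr (R₀ ⊓ LinearMap.ker l) inf_le_left (fun g hg r hr =>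
      ⟨S.tmem g hg r hr.1, by
        show l (tr g r) = 0
        rw [S.scal_tr_comm hl hg (le_kspan hr.1), show l r = 0 from hr.2, map_zero]⟩) with hb | ht
  · right
    have hinj : ∀ r ∈ R₀, l r = 0 → r = 0 := fun r hr h0 => by
      have : r ∈ R₀ ⊓ LinearMap.ker l := ⟨hr, h0⟩
      rwa [hb, Submodule.mem_bot] at this
    let f : R₀ → R₀ := fun r => ⟨l r, (S.scal_mem hl).1 r r.2⟩
    have hf : Function.Injective f := fun r s hrs => by
      have e : l (r : V) = l (s : V) := congrArg Subtype.val hrs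
      refine Subtype.ext (sub_eq_zero.1 (hinj _ (sub_mem r.2 s.2) ?_))
      rw [map_sub, e, sub_self]
    have hsurj : ∀ r ∈ R₀, ∃ r' ∈ R₀, l r' = r := fun r hr => by
      obtain ⟨r', h'⟩ := Finite.injective_iff_surjective.1 hf ⟨r, hr⟩
      exact ⟨r', r'.2, congrArg Subtype.val h'⟩
    refine ⟨fun w hw h0 => ?_, hsurj⟩
    let F : kspan K R₀ → kspan K R₀ := fun w => ⟨l w, (S.scal_mem hl).2.1 w w.2⟩
    have hF : Function.Surjective F := by
      rintro ⟨u, hu⟩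
      induction hu using Submodule.span_induction with
      | mem s hs =>
        obtain ⟨g, hg, r, hr, rfl⟩ := hs
        obtain ⟨r', hr', rfl⟩ := hsurj r hr
        exact ⟨⟨g r', mem_kspan hg hr'⟩, Subtype.ext ((S.scal_mem hl).2.2 g hg r' (le_kspan hr'))⟩
      | zero => exact ⟨0, Subtype.ext (map_zero l)⟩
      | add x y _ _ hx hy =>
        obtain ⟨⟨x', hx'⟩, ex⟩ := hx
        obtain ⟨⟨y', hy'⟩, ey⟩ := hy
        refine ⟨⟨x' + y', add_mem hx' hy'⟩, Subtype.ext ?_⟩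
        show l (x' + y') = x + y
        rw [map_add]
        exact congrArg₂ (· + ·) (congrArg Subtype.val ex) (congrArg Subtype.val ey)
      | smul c x _ hx =>
        obtain ⟨⟨x', hx'⟩, ex⟩ := hx
        refine ⟨⟨c • x', Submodule.smul_mem _ c hx'⟩, Subtype.ext ?_⟩
        show l (c • x') = c • x
        rw [map_smul]
        exact congrArg (c • ·) (congrArg Subtype.val ex)
    have := (Finite.injective_iff_surjective.2 hF) (a₁ := ⟨w, hw⟩) (a₂ := 0)
      (Subtype.ext (by simp [F, h0]))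
    exact congrArg Subtype.val this
  · left
    intro w hw
    exact S.ext (P := l) (Q := 0) (S.scal_commute hl)
      (fun g _ v => by simp) (fun r hr => ((ht.ge hr).2 : l r = 0)) w hw

/-- Every element of `R₀` is a scalar multiple of a nonzero one. -/
theorem Slot.exists_scal {r₀ r : V} (hr₀ : r₀ ∈ R₀) (h0 : r₀ ≠ 0) (hr : r ∈ R₀) :
    ∃ l ∈ S.scal, l r₀ = r := by
  let U : Submodule (ZMod 2) V :=
    (Subalgebra.toSubmodule S.scal).map (LinearMap.applyₗ r₀)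
  have hU : U ≤ R₀ := by
    rintro _ ⟨l, hl, rfl⟩
    exact (S.scal_mem hl).1 r₀ hr₀
  rcases S.irr U hU (fun g hg u hu => by
    obtain ⟨l, hl, rfl⟩ := hu
    exact ⟨tr g * l, S.scal.mul_mem (S.scal_tr hg) hl, rfl⟩) with hb | ht
  · exfalso
    have : r₀ ∈ U := ⟨1, one_mem S.scal, rfl⟩
    rw [hb, Submodule.mem_bot] at this
    exact h0 this
  · obtain ⟨l, hl, e⟩ := ht.ge hr
    exact ⟨l, hl, e⟩

end Cfsg.Agent.Lib.OffenderComp
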